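import Cfsg.Agent.Lib.F22W.UDefs

/-! Outer involutions of `2.U₆(2)`. -/

set_option autoImplicit false
set_option maxRecDepth 100000

namespace CfsgLib.F22W

open Cfsg Cfsg.Spor CfsgLib.Comput CfsgLib.ThreeTrans CfsgLib.Fischer CfsgLib.FiTool CfsgLib.M22T Subgroup
open CfsgLib.F22S (Inn Cl Ce)

variable {L : Type*} [Group L] [Finite L] {B : ℕ → L}

omit [Finite L] in
theorem out_memA (B : ℕ → L) {i : ℕ} (hi : i < 22) : B i ∈ AA B := subset_closure ⟨i, hi, rfl⟩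

omit [Finite L] in
theorem out_mem_conj {c x : L} : c * x * c⁻¹ ∈ AA (fun i => c * B i * c⁻¹) ↔ x ∈ AA B := by
  have : AA (fun i => c * B i * c⁻¹) = (AA B).map (MulAut.conj c).toMonoidHom := by
    rw [MonoidHom.map_closure]
    exact congrArg Subgroup.closure (Set.ext fun x => ⟨fun ⟨j, h, e⟩ => ⟨_, ⟨j, h, rfl⟩, e⟩, by
      rintro ⟨_, ⟨j, h, rfl⟩, e⟩; exact ⟨j, h, e⟩⟩)
  rw [this, StdInt.mem_cj, show c⁻¹ * (c * x * c⁻¹) * c = x by group]

theorem Um0.out_aut (h : Um0 B) {P : Subgroup L} (hP : IsPGroup 2 P) (hA : AA B ≤ P) {φ : MulAut L}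
    (hφ : ∀ x ∈ AA B, φ x ∈ P) {x : L} (hx : x ∈ AA B) : φ x ∈ AA B := by
  have h0 := out_memA B (show 0 < 22 by norm_num)
  obtain ⟨c, hc⟩ := h.jf P hP (hA h0)
  have h1 := hc _ hA (fun y => h.lin.V_sq) h0 h.lin.card_V.ge
  have h2 := hc ((AA B).map φ.toMonoidHom) (by rintro _ ⟨y, hy, rfl⟩; exact hφ y hy)
    (by rintro _ ⟨y, hy, rfl⟩; rw [← map_mul, h.lin.V_sq hy, map_one]) ⟨_, h0, h.aut_t φ⟩
    (by rw [card_map_of_injective φ.injective]; exact h.lin.card_V.ge) _ ⟨x, hx, rfl⟩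
  exact (mem_normalizer_iff.1 (mem_normalizer_fintype h1) _).2 h2

theorem out_bit {f g : ℕ → ℕ} {k m n : ℕ} (h : ∀ j < n, m.testBit j = (f j ^^^ g j).testBit k) (v : ℕ) :
    (synM (fun j => m >>> j) n v).testBit 0 = (synM f n v ^^^ synM g n v).testBit k := by
  induction n with
  | zero => simp [synM]
  | succ n ih =>
    have e := ih fun j hj => h j (by omega)
    rw [synM_succ, synM_succ, synM_succ]
    split_ifs
    · rw [Nat.testBit_xor, e, Nat.testBit_shiftRight, add_zero, h n (by omega), ← Nat.testBit_xor]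
      congr 1
      ac_rfl
    · exact e

theorem out_wt : ∀ m < 2 ^ 10, m ≠ 0 →
    7 ≤ ((Finset.range 22).filter fun i => (synM (fun j => m >>> j) 10 (co i)).testBit 0 = true).card := by
  decide +kernel

theorem out_co : (∀ i < 22, synM co 10 (co i) = co i ∧ co i ∈ cs22) ∧
    ∀ a ∈ cs22, ∀ b ∈ cs22, a ≠ b → ∀ c ∈ cs22, c ≠ a → c ≠ b → a ^^^ b ^^^ c ∉ cs22 := by
  decide +kernel

omit [Finite L] in
theorem Um0.out_mv (h : Um0 B) {φ : MulAut L} (h2 : ¬Inn φ) {π : ℕ → ℕ} (hπ : ∀ i < 22, π i < 22 ∧ B (π i) = φ (B i)) :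
    ∃ M : Finset ℕ, 7 ≤ M.card ∧ ∀ i ∈ M, i < 22 ∧ φ (B i) ≠ B i := by
  have e : ∀ v, φ (bprod B 10 v) = bprod B 10 (synM (fun j => co (π j)) 10 v) := fun v => by
    rw [← h.lin.bprod_bprod]
    exact (F22S.map_bprod φ.toMonoidHom B 10 v).trans (bprod_congr (fun i hi =>
      (hπ i (by omega)).2.symm.trans (h.lin.rel _ (hπ i (by omega)).1)) fun _ _ => rfl)
  obtain ⟨j, hj, k, hk⟩ : ∃ j < 10, ∃ k, (co (π j) ^^^ co j).testBit k = true := by
    by_contra! hn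
    refine h2 (h.fx φ fun i hi => ?_)
    rw [h.lin.rel i hi]
    refine bprod_mem (H := φ.toMonoidHom.eqLocus (MonoidHom.id L)) fun j hj _ => ?_
    have : co (π j) = co j := Nat.eq_of_xor_eq_zero (Nat.zero_of_testBit_eq_false fun k => by simpa using hn j hj k)
    change φ (B j) = B j
    rw [← (hπ j (by omega)).2, co_facts.1 _ (hπ j (by omega)).1 j (by omega) this]
  have hm : ∀ j < 10, (Nat.ofBits fun j : Fin 10 => (co (π j) ^^^ co j).testBit k).testBit j =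
      (co (π j) ^^^ co j).testBit k := fun j hj => Nat.testBit_ofBits_lt _ j hj
  refine ⟨_, out_wt _ (Nat.ofBits_lt_two_pow _) (fun e => by
    have := hm j hj
    rw [e, hk, Nat.zero_testBit] at this
    exact absurd this (by decide)), fun i hi => ?_⟩
  obtain ⟨h3, h4⟩ := Finset.mem_filter.1 hi
  rw [Finset.mem_range] at h3
  refine ⟨h3, fun e1 => ?_⟩
  rw [h.lin.rel i h3, e] at e1
  rw [out_bit hm, h.lin.eq (synM_lt (fun j hj => h.lin.colt _ (hπ j (by omega)).1) _) (h.lin.colt i h3) e1,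
    (out_co.1 i h3).1] at h4
  simp at h4

/-- As `F22S.Fm.out` (copy mem_AA_conj, aut_mem): a φ-invariant Sylow 2-subgroup contains a conjugate frame B', U = AA B' is
φ-invariant, φ B'_i = B'_(π i) (`amax`).  θ v = φ v * v is an endomorphism of U, θ (bprod v) = bprod (synM δ 10 v) with
δ j = co (π j) ^^^ co j.  Not all B'_i are fixed (`fx`), so some bit k of some δ j is set; m = Σ_j (bit k of δ j) 2^j ≠ 0; every
m with 0 < m < 2^10 has odd intersection with at least 8 of the 22 vectors co i (decide), so at least 8 points are moved.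
co i ^^^ co i' = co j ^^^ co j' with i ≠ i' forces j ∈ {i, i'} (decide), so θ takes at least 4 different non-trivial values on the
points: choose a, b, c with θ a ≠ 1, θ b ∉ {1, θ a}, θ c ∉ {1, θ a, θ b, θ a θ b}. -/
theorem Um.out (h : Um B) {φ : MulAut L} (h1 : φ * φ = 1) (h2 : ¬Inn φ) : ∃ U : Subgroup L, (∀ x ∈ U, x * x = 1) ∧
    (∀ x ∈ U, φ x ∈ U) ∧ ∃ a ∈ U, ∃ b ∈ U, ∃ c ∈ U,
      ∀ x ∈ [a, b, c, a * b, a * c, b * c, a * b * c], φ x ≠ x := by
  classical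
  have p : IsPGroup 2 (zpowers φ) := fun x => ⟨1, Subtype.ext (by
    obtain ⟨n, hn⟩ := x.2
    rw [pow_one, coe_pow, ← hn, ← zpow_natCast, ← zpow_mul, mul_comm, zpow_mul, zpow_natCast, pow_two, h1, one_zpow]; rfl)⟩
  obtain ⟨S, hS⟩ := p.nonempty_fixed_point_of_prime_not_dvd_card (Sylow 2 L) (not_dvd_card_sylow 2 L)
  have h3 : φ • S = S := hS ⟨φ, mem_zpowers φ⟩
  obtain ⟨c, hc⟩ := exists_conj_mem_sylow S (IsPGroup.of_card h.f.lin.card_V)
  have f := (h.conj c).f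
  have h4 : AA (fun i => c * B i * c⁻¹) ≤ S := fun x hx => by
    obtain ⟨x, rfl⟩ : ∃ y, x = c * y * c⁻¹ := ⟨c⁻¹ * x * c, by group⟩
    exact hc x (out_mem_conj.1 hx)
  generalize (fun i => c * B i * c⁻¹) = B' at f h4
  have hU : ∀ x ∈ AA B', φ x ∈ AA B' := fun x => f.out_aut S.isPGroup' h4 fun y hy =>
    h3 ▸ Subgroup.smul_mem_pointwise_smul _ φ _ (h4 hy)
  refine ⟨AA B', fun x => f.lin.V_sq, hU, ?_⟩
  choose! π π1 π2 using fun i (hi : i < 22) => f.amax φ hi (hU _ (out_memA B' hi))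
  obtain ⟨M, m1, m2⟩ := f.out_mv h2 fun i hi => ⟨π1 i hi, π2 i hi⟩
  have mA : ∀ i ∈ M, B' i ∈ AA B' := fun i hi => out_memA B' (m2 i hi).1
  have fib : ∀ x, (M.filter fun i => φ (B' i) * B' i = x).card ≤ 2 := fun x => by
    rcases (M.filter fun i => φ (B' i) * B' i = x).eq_empty_or_nonempty with e | ⟨i, hi⟩
    · simp [e]
    refine (Finset.card_le_card (t := {π i, i}) fun j hj => ?_).trans Finset.card_le_two
    obtain ⟨i1, i2⟩ := Finset.mem_filter.1 hi
    obtain ⟨j1, j2⟩ := Finset.mem_filter.1 hj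
    have a1 := (m2 i i1).1
    have a2 := (m2 j j1).1
    have e := i2.trans j2.symm
    rw [← π2 i a1, ← π2 j a2, f.lin.rel _ (π1 i a1), f.lin.rel _ (π1 j a2), f.lin.rel i a1, f.lin.rel j a2,
      ← f.lin.xor, ← f.lin.xor] at e
    have e1 := f.lin.eq (Nat.xor_lt_two_pow (f.lin.colt _ (π1 i a1)) (f.lin.colt _ a1))
      (Nat.xor_lt_two_pow (f.lin.colt _ (π1 j a2)) (f.lin.colt _ a2)) e
    by_contra hn
    simp only [Finset.mem_insert, Finset.mem_singleton, not_or] at hn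
    refine out_co.2 _ (out_co.1 _ (π1 i a1)).2 _ (out_co.1 _ a1).2 (fun e2 => (m2 i i1).2 ?_) _ (out_co.1 _ a2).2
      (fun e2 => hn.1 (co_facts.1 _ a2 _ (π1 i a1) e2)) (fun e2 => hn.2 (co_facts.1 _ a2 _ a1 e2)) ?_
    · rw [← π2 i a1, co_facts.1 _ (π1 i a1) _ a1 e2]
    · rw [e1, Nat.xor_assoc, Nat.xor_self, Nat.xor_zero]
      exact (out_co.1 _ (π1 j a2)).2
  have pick : ∀ x y z, ∃ i ∈ M, φ (B' i) * B' i ≠ x ∧ φ (B' i) * B' i ≠ y ∧ φ (B' i) * B' i ≠ z := fun x y z => by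
    by_contra! hn
    have : M ⊆ (M.filter fun i => φ (B' i) * B' i = x) ∪ (M.filter fun i => φ (B' i) * B' i = y) ∪
        M.filter fun i => φ (B' i) * B' i = z := fun i hi => by
      simp only [Finset.mem_union, Finset.mem_filter, hi, true_and]
      have := hn i hi
      tauto
    have k := (Finset.card_le_card this).trans ((Finset.card_union_le _ _).trans
      (add_le_add ((Finset.card_union_le _ _).trans (add_le_add (fib x) (fib y))) (fib z)))
    omega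
  have th : ∀ x ∈ AA B', ∀ y ∈ AA B', φ (x * y) = x * y → φ y * y = φ x * x := fun x hx y hy e => by
    have e1 : φ y = φ x * (x * y) := by rw [← e, map_mul, ← mul_assoc, f.lin.V_sq (hU x hx), one_mul]
    rw [e1, mul_assoc, mul_assoc, f.lin.V_sq hy, mul_one]
  obtain ⟨i, hi, -⟩ := pick 1 1 1
  obtain ⟨j, hj, j1, -⟩ := pick (φ (B' i) * B' i) 1 1
  obtain ⟨k, hk, k1, k2, k3⟩ := pick (φ (B' i) * B' i) (φ (B' j) * B' j) (φ (B' i * B' j) * (B' i * B' j))
  refine ⟨_, mA i hi, _, mA j hj, _, mA k hk, ?_⟩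
  simp only [List.forall_mem_cons, List.not_mem_nil, false_imp_iff, imp_true_iff, and_true]
  exact ⟨(m2 i hi).2, (m2 j hj).2, (m2 k hk).2, fun e => j1 (th _ (mA i hi) _ (mA j hj) e),
    fun e => k1 (th _ (mA i hi) _ (mA k hk) e), fun e => k2 (th _ (mA j hj) _ (mA k hk) e),
    fun e => k3 (th _ (mul_mem (mA i hi) (mA j hj)) _ (mA k hk) e)⟩

end CfsgLib.F22W
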