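import Cfsg.Agent.Lib.F22W.Gd
import Cfsg.Agent.Lib.F22W.Out
import Cfsg.Agent.Lib.F22S.Amb

/-! A standard subgroup `2.U₆(2)`: its centraliser. -/

set_option autoImplicit false
set_option maxRecDepth 100000

namespace CfsgLib.F22W

open Cfsg Cfsg.Spor CfsgLib.Comput CfsgLib.ThreeTrans CfsgLib.Fischer CfsgLib.FiTool CfsgLib.M22T Subgroup
open CfsgLib.F22S (Inn Cl Ce)

open CfsgLib.StdInt

variable {G : Type*} [Group G] [Finite G] {L : Subgroup G} {B : ℕ → L}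

/-- the facts in the ambient group -/
structure FxA (L K : Subgroup G) (t : G) : Prop extends Fx L K t where
  iv : ∀ l ∈ L, (l * l = 1 ∨ l * l = t) → l * l = 1
  f6 : ∀ s ∈ L, s * s = 1 → s ≠ 1 → s ≠ t → ∃ V ≤ L, (∀ v ∈ V, v * v = 1) ∧ s ∈ V ∧ 2 ^ 9 ≤ Nat.card V ∧
    ∀ v ∈ V, v ∈ WG L s ∨ v * s ∈ WG L s
  f7 : ∀ s ∈ L, s * s = 1 → s ≠ 1 → s ≠ t → ∃ a ∈ L, a * s * a⁻¹ ≠ s ∧
    a * s * a⁻¹ * s * (a * s * a⁻¹ * s) = 1 ∧ a * s * a⁻¹ * s ∈ WG L s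
  rk : ∀ h, Commute h t → h * h ∈ K → (∀ l ∈ L, h * l ∉ K) → ∀ U ≤ L, (∀ x ∈ U, x * x = 1 ∧ Commute h x) →
    t ∈ U → Nat.card U < 2 ^ 9
  idx : ∀ h k, Commute h t → Commute k t → (∀ l ∈ L, h * l ∉ K) → (∀ l ∈ L, k * l ∉ K) → ∃ l ∈ L, h * k * l ∈ K
  out : ∀ h, Commute h t → h * h ∈ K → (∀ l ∈ L, h * l ∉ K) → ∃ U : Subgroup G, (∀ x ∈ U, x * x = 1) ∧
    (∀ x ∈ U, h * x * h⁻¹ ∈ U) ∧ ∃ a ∈ U, ∃ b ∈ U, ¬Commute h a ∧ ¬Commute h b ∧ ¬Commute h (a * b)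

theorem fxA_of (hL : IsStandardSubgroup L) (h : Um B) : FxA L (centralizer (L : Set G)) (B 0) := by
  have k : ∀ {c : G} (hc : c ∈ normalizer (L : Set G)), (∀ l ∈ L, c * l ∉ centralizer (L : Set G)) → ¬Inn (aut hc) :=
    fun hc h3 ⟨l, e⟩ => h3 _ (inv_mem l.2) ((aut_eq_conj hc l).1 e)
  have w : ∀ {s x : L}, x ∈ Wf (MulAut.conj s) → (x : G) ∈ WG L s := fun {s x} hx =>
    (mem_Wf_aut (le_normalizer s.2)).1 (StdInt.aut_conj s ▸ hx)
  refine ⟨fx_of hL h.good0, fun l hl h1 => ?_, fun s hs h1 h2 h3 => ?_, fun s hs h1 h2 h3 => ?_,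
    fun c h1 h2 h3 U hU u1 u2 => ?_, fun c c' h1 h2 h3 h4 => ?_, fun c h1 h2 h3 => ?_⟩
  · obtain ⟨c, hc⟩ := h.f.iv ⟨l, hl⟩ (h1.imp Subtype.ext Subtype.ext)
    have := h.f.lin.V_sq hc
    rw [conj_mul, conj_eq_one_iff] at this
    exact congrArg Subtype.val this
  · obtain ⟨V, v1, v2, v3, v4⟩ := h.f6 (s := ⟨s, hs⟩) (Subtype.ext h1) (fun e => h2 (congrArg Subtype.val e))
      fun e => h3 (congrArg Subtype.val e)
    refine ⟨V.map L.subtype, map_subtype_le V, ?_, mem_map_of_mem L.subtype v2,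
      v3.trans_eq (card_map_of_injective L.subtype_injective).symm, ?_⟩
    · rintro _ ⟨x, hx, rfl⟩
      exact congrArg Subtype.val (v1 x hx)
    · rintro _ ⟨x, hx, rfl⟩
      rcases v4 x hx with e | e
      · have := w e
        exact Or.inl this
      · have := w e
        exact Or.inr this
  · obtain ⟨a, a1, a2, a3⟩ := h.f7 (s := ⟨s, hs⟩) (Subtype.ext h1) (fun e => h2 (congrArg Subtype.val e))
      fun e => h3 (congrArg Subtype.val e)
    have a4 := w a3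
    exact ⟨a, a.2, fun e => a1 (Subtype.ext e), congrArg Subtype.val a2, a4⟩
  · have hc := (norm_iff hL h.good0).2 h1
    rw [← Nat.card_congr (subgroupOfEquivOfLe hU).toEquiv]
    exact h.f.rk (aut hc) (by rwa [aut_mul, aut_eq_one]) (k hc h3) _
      (fun x hx => ⟨Subtype.ext (u1 x hx).1, (aut_fix hc).2 (u1 x hx).2⟩) u2
  · have hc := (norm_iff hL h.good0).2 h1
    have hc' := (norm_iff hL h.good0).2 h2
    obtain ⟨l, e⟩ := h.f.idx _ _ (k hc h3) (k hc' h4)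
    rw [aut_mul, aut_eq_conj] at e
    exact ⟨_, inv_mem l.2, e⟩
  · have hc := (norm_iff hL h.good0).2 h1
    obtain ⟨U, u1, u2, a, ha, b, hb, c, -, u3⟩ := h.out (by rwa [aut_mul, aut_eq_one]) (k hc h3)
    refine ⟨U.map L.subtype, ?_, ?_, a, ⟨a, ha, rfl⟩, b, ⟨b, hb, rfl⟩, fun e => u3 a (by simp) ((aut_fix hc).2 e),
      fun e => u3 b (by simp) ((aut_fix hc).2 e), fun e => u3 (a * b) (by simp) ((aut_fix hc).2 e)⟩ <;>
      rintro _ ⟨x, hx, rfl⟩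
    exacts [congrArg Subtype.val (u1 x hx), ⟨_, u2 x hx, rfl⟩]

namespace FxA

variable {K : Subgroup G} {t g : G} (a : FxA L K t) (h1 : Commute (g * t * g⁻¹) t) (h2 : g * t * g⁻¹ ≠ t)
include a h1 h2

theorem two_mem {v : G} (h : v ∈ WG L (g * t * g⁻¹)) (hv : v * v = 1) : g⁻¹ * v * g ∈ L :=
  StdInt.mem_cj.1 (WG_le ((a.pair h1 h2).two_mem h (two_of_sq hv))).1

theorem not_inner (h : ∀ g : G, g * t * g⁻¹ ∈ L → g * t * g⁻¹ = t) {l : G} (hl : l ∈ L)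
    (h3 : g * t * g⁻¹ * l ∈ K) : False := by
  have p := a.pair h1 h2
  have tm := fun v => a.two_mem h1 h2 (v := v)
  have ss := p.b.sq
  have sK := p.sK
  generalize hs : g * t * g⁻¹ = s at *
  have ht : t = g⁻¹ * s * g := by rw [← hs]; group
  have h4 : WG L l⁻¹ ≤ WG L s := closure_mono fun w hw => ⟨hw.1, hw.2.1, by
    simpa using (a.comm w hw.1 _ h3).symm.mul_left hw.2.2⟩
  have h5 : Commute s l := by simpa using (a.comm l hl _ h3).symm.mul_left (Commute.refl l).inv_left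
  have h6 : l⁻¹ * l⁻¹ = 1 := by
    refine a.iv _ (inv_mem hl) (a.inter _ (mul_mem (inv_mem hl) (inv_mem hl)) ?_)
    have := inv_mem (mul_mem h3 h3)
    rwa [mul_assoc, ← mul_assoc l, ← h5.eq, mul_assoc s, ← mul_assoc s s, ss, one_mul, mul_inv_rev] at this
  obtain ⟨x, hx, x1, x2, x3⟩ := a.f7 _ (inv_mem hl) h6
    (fun e => sK (by simpa only [mul_inv_cancel_right] using mul_mem h3 (e ▸ one_mem K : l⁻¹ ∈ K)))
    fun e => sK (by simpa using mul_mem h3 (e ▸ a.tK : l⁻¹ ∈ K))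
  have hi : l⁻¹ = l := by simpa using (inv_eq_of_mul_eq_one_right h6).symm
  have x4 := tm _ (h4 x3) x2
  have e1 : x * s * x⁻¹ = x * l⁻¹ * x⁻¹ * l⁻¹ * s := by
    calc x * s * x⁻¹ = x * l⁻¹ * ((s * l) * x⁻¹) := by rw [h5.eq]; group
      _ = x * l⁻¹ * (x⁻¹ * (s * l)) := by rw [(a.comm _ (inv_mem hx) _ h3).eq]
      _ = _ := by rw [h5.eq]; nth_rw 3 [hi]; group
  have e2 : g⁻¹ * x * g * t * (g⁻¹ * x * g)⁻¹ = g⁻¹ * (x * l⁻¹ * x⁻¹ * l⁻¹) * g * t := by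
    calc _ = g⁻¹ * (x * s * x⁻¹) * g := by rw [ht]; group
      _ = _ := by rw [e1, ht]; group
  have e3 := h _ (e2 ▸ mul_mem x4 a.tL)
  rw [e2, mul_eq_right, mul_assoc, inv_mul_eq_one, eq_comm, mul_eq_right, mul_inv_eq_one] at e3
  exact x1 (e3.trans hi.symm)

theorem swap (h : g * t * g⁻¹ ∈ L) : g⁻¹ * t * g ∈ L := by
  have p := a.pair h1 h2
  obtain ⟨V, hV, v1, v2, v3, v4⟩ := a.f6 _ h p.b.sq p.b.ne h2
  have c1 : Commute (g⁻¹ * t * g) t := by simpa using inv_comm h1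
  have s1 : g⁻¹ * t * g * (g⁻¹ * t * g) = 1 := by simpa using (a.toHalf.conj g⁻¹).sq
  obtain ⟨l, hl, e⟩ : ∃ l ∈ L, g⁻¹ * t * g * l ∈ K := by
    by_contra! k
    refine absurd (a.rk _ c1 (s1 ▸ one_mem K) k (StdInt.cj g⁻¹ V) ?_ ?_ (StdInt.mem_cj.2 (by simpa using v2))) (by
      rw [card_map_of_injective (MulAut.conj g⁻¹).injective]; omega) <;> rintro _ ⟨v, hv, rfl⟩
    · rcases v4 v hv with k | k
      · simpa using a.two_mem h1 h2 k (v1 v hv)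
      · have := mul_mem (a.two_mem h1 h2 k (v1 _ (mul_mem hv v2))) (inv_mem a.tL)
        simpa [mul_assoc] using this
    · exact ⟨by rw [← map_mul, v1 v hv, map_one], by simpa using ((a.cL (hV hv)).symm.map (MulAut.conj g⁻¹))⟩
  generalize hu : g⁻¹ * t * g = u at *
  have h5 : Commute u l := by simpa using (a.comm l hl _ e).symm.mul_left (Commute.refl l).inv_left
  have h6 : u * l * (u * l) = l * l := by
    rw [mul_assoc, ← mul_assoc l, ← h5.eq, mul_assoc u, ← mul_assoc u u, s1, one_mul]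
  have h7 : Two (u * l) := two_of_sq (h6.trans (a.iv l hl (a.inter _ (mul_mem hl hl) (h6 ▸ mul_mem e e))))
  have h8 : Commute (g * (u * l) * g⁻¹) t := (comm_conj.2 (hu ▸ (Commute.refl u).mul_right h5)).symm
  have h9 : u * l ∈ L := by
    rcases p.sylow h ⟨_, e, rfl⟩ h8 (two_conj g h7) with k | k
    · rw [show u * l = 1 by simpa using k]; exact one_mem _
    · rw [show u * l = t by simpa using k]; exact a.tL
  exact (mul_mem_cancel_right hl).1 h9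

theorem exists_mem : ∃ g : G, g * t * g⁻¹ ∈ L ∧ g * t * g⁻¹ ≠ t := by
  by_contra! h
  have p := a.pair h1 h2
  obtain ⟨U, u1, u2, x, hx, y, hy, x1, y1, xy⟩ := a.out _ h1 (p.b.sq ▸ one_mem K)
    fun l hl e => a.not_inner h1 h2 h hl e
  have ss := p.b.sq
  generalize hs : g * t * g⁻¹ = s at *
  have hi : s⁻¹ = s := inv_eq_of_mul_eq_one_right ss
  have ht : t = g⁻¹ * s * g := by rw [← hs]; group
  have iv : ∀ x ∈ U, x⁻¹ = x := fun x hx => inv_eq_of_mul_eq_one_right (u1 x hx)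
  have cU : ∀ x ∈ U, ∀ y ∈ U, x * y = y * x := fun x hx y hy => by
    rw [← iv _ (mul_mem hx hy), mul_inv_rev, iv x hx, iv y hy]
  have k : ∀ x ∈ U, ¬Commute s x → Commute (g⁻¹ * (s * x * s⁻¹ * x) * g) t ∧
      ∀ l ∈ L, g⁻¹ * (s * x * s⁻¹ * x) * g * l ∉ K := fun x hx hn => by
    have c0 : Commute s (s * x * s⁻¹ * x) := by
      calc s * (s * x * s⁻¹ * x) = s * s * (x * (s⁻¹ * x * s⁻¹⁻¹)) * s⁻¹ := by group
        _ = s * x * s⁻¹ * x * s := by rw [ss, one_mul, inv_inv, hi, ← cU (s * x * s) (by simpa only [hi] using u2 x hx) x hx]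
    have c : Commute (g⁻¹ * (s * x * s⁻¹ * x) * g) t := comm_conj.1 (by rw [hs]; exact c0.symm)
    have e : t * (g⁻¹ * (s * x * s⁻¹ * x) * g) = g⁻¹ * x * g * t * (g⁻¹ * x * g)⁻¹ := by
      calc _ = g⁻¹ * (s * s) * x * s⁻¹ * x * g := by rw [ht]; group
        _ = g⁻¹ * x * s * x⁻¹ * g := by rw [ss, hi, iv x hx, mul_one]
        _ = _ := by rw [ht]; group
    have ne : g⁻¹ * x * g * t * (g⁻¹ * x * g)⁻¹ ≠ t := fun e1 =>
      hn (hs ▸ (comm_conj.2 (mul_inv_eq_iff_eq_mul.1 e1)).symm)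
    refine ⟨c, fun l hl e1 => a.not_inner (e ▸ (Commute.refl t).mul_left c) ne h hl ?_⟩
    rw [← e, mul_assoc]
    exact mul_mem a.tK e1
  obtain ⟨l, hl, e⟩ := a.idx _ _ (k x hx x1).1 (k y hy y1).1 (k x hx x1).2 (k y hy y1).2
  refine (k _ (mul_mem hx hy) xy).2 l hl ?_
  convert e using 2
  calc _ = g⁻¹ * (s * x * s⁻¹) * (s * y * s⁻¹ * x) * y * g := by group
    _ = _ := by rw [cU _ (u2 y hy) x hx]; group

theorem two_K {k : G} (hk : k ∈ K) (h : Two k) : k = 1 ∨ k = t := by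
  obtain ⟨g, h3, h4⟩ := a.exists_mem h1 h2
  have h5 := a.cL h3
  have p := a.pair h5 h4
  have h6 : g * k * g⁻¹ ∈ StdInt.cj g K := ⟨k, hk, rfl⟩
  exact (p.sylow h3 h6 (p.b.comm t (StdInt.mem_cj.2 (a.swap h5 h4 h3)) _ h6).symm (two_conj g h)).imp
    (fun e => by simpa using e) fun e => by simpa using e

theorem le (hb : centralizerPPrimeCore 2 t = ⊥) : K ≤ L := by
  obtain ⟨θ, h3⟩ := a.exists_th fun k => a.two_K h1 h2
  exact h3.le a.toHalf (eq_bot_iff.2 (hb ▸ Core.le_map_pPrimeCore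
    (fun x hx => mem_centralizer_singleton_iff.2 (a.cK ((h3.mem x).1 hx).1))
    (fun c hc => h3.norm a.toHalf (mem_centralizer_singleton_iff.1 hc)) (Nat.coprime_two_right.2 h3.odd)))

end FxA

/-- the centraliser of `L` has order two, and its involution is fused into `L` -/
theorem amb [IsSimpleGroup G] (hG : ¬IsMulCommutative G)
    (hbal : ∀ t : G, orderOf t = 2 → centralizerPPrimeCore 2 t = ⊥) (hL : IsStandardSubgroup L) (h : Um B) :
    (∀ k ∈ centralizer (L : Set G), k = 1 ∨ k = B 0) ∧ ∃ g : G, g * B 0 * g⁻¹ ∈ L ∧ g * B 0 * g⁻¹ ≠ B 0 := by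
  have a := fxA_of hL h
  obtain ⟨g, g1, g2⟩ := a.simple hG
  exact ⟨fun k hk => a.inter k (a.le g1 g2 (hbal _ a.ord) hk) hk, a.exists_mem g1 g2⟩

end CfsgLib.F22W
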