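import Cfsg.Agent.Lib.F22W.Md

/-! The automorphisms of `2.U₆(2)`. -/

set_option autoImplicit false
set_option maxRecDepth 100000

namespace CfsgLib.F22W

open Cfsg Cfsg.Spor CfsgLib.Comput CfsgLib.ThreeTrans CfsgLib.Fischer CfsgLib.FiTool CfsgLib.M22T Subgroup
open CfsgLib.F22S (Inn Cl Ce)

variable {L : Type*} [Group L]

section
open scoped commutatorElement
variable {K S F : Type*} [Group K] [Group S] [Group F] {D : Set F} {g pt : ℕ → F}

theorem au_comm {a b : K} (h : a * b * a⁻¹ = b) : Commute a b := mul_inv_eq_iff_eq_mul.1 h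

theorem au_eq (hp : commutator K = ⊤) (α β : K →* S) (h : ∀ x, ∃ z ∈ center S, α x = β x * z) (x : K) :
    α x = β x := by
  have : commutator K ≤ α.eqLocus β := commutator_le.2 fun x _ y _ => by
    obtain ⟨a, ha, e1⟩ := h x
    obtain ⟨b, hb, e2⟩ := h y
    change α ⁅x, y⁆ = β ⁅x, y⁆
    rw [map_commutatorElement, map_commutatorElement, e1, e2, StdInt.comm_central ha hb]
  exact this (hp ▸ mem_top x)

theorem au_ind (χ : K →* S) (hs : Function.Surjective χ) (hk : χ.ker = center K) (φ : MulAut K) :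
    ∃ ψ : MulAut S, ∀ x, ψ (χ x) = χ (φ x) := by
  have k : ∀ φ : MulAut K, ∃ ψ : S →* S, ∀ x, ψ (χ x) = χ (φ x) := fun φ =>
    ⟨χ.liftOfSurjective hs ⟨χ.comp φ.toMonoidHom, fun x hx => by
      change φ x ∈ χ.ker
      rw [hk] at hx ⊢
      refine mem_center_iff.2 fun y => ?_
      obtain ⟨y, rfl⟩ := φ.surjective y
      rw [← map_mul, ← map_mul, mem_center_iff.1 hx]⟩, fun x => by simp⟩
  obtain ⟨a, ha⟩ := k φ
  obtain ⟨b, hb⟩ := k φ⁻¹
  refine ⟨MonoidHom.toMulEquiv a b ?_ ?_, ha⟩ <;> ext x <;> obtain ⟨x, rfl⟩ := hs x <;> simp [ha, hb]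

theorem au_lift [Finite K] (hp : commutator K = ⊤) (χ : K →* S) (hs : Function.Surjective χ)
    (hk : χ.ker = center K) (hc : Nat.card (MulAut S) ≤ Nat.card (MulAut K)) (ψ : MulAut S) :
    ∃ φ : MulAut K, ∀ x, ψ (χ x) = χ (φ x) := by
  have : Finite S := Finite.of_surjective χ hs
  have : Finite (MulAut S) := Finite.of_injective _ DFunLike.coe_injective
  choose f hf using au_ind χ hs hk
  have hi : Function.Injective f := fun φ ψ e => MulEquiv.ext (au_eq hp φ.toMonoidHom ψ.toMonoidHom fun x =>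
    ⟨(ψ x)⁻¹ * φ x, by rw [← hk, MonoidHom.mem_ker, map_mul, map_inv, ← hf, ← hf, e, inv_mul_cancel], by simp⟩)
  obtain ⟨φ, rfl⟩ := (hi.bijective_of_nat_card_le hc).2 ψ
  exact ⟨φ, hf φ⟩

theorem au_card [Finite F] {K H : Subgroup F} (hKH : K ≤ H) (hn : H ≤ normalizer (K : Set F))
    (χ : K →* S) (hs : Function.Surjective χ) (hk : χ.ker = center K)
    (hC : ∀ x ∈ H, (∀ y ∈ K, Commute x y) → x ∈ K) :
    K.relIndex H * Nat.card S ≤ Nat.card (MulAut K) := by
  have : Finite S := Finite.of_surjective χ hs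
  have : Finite (MulAut K) := Finite.of_injective _ DFunLike.coe_injective
  let f := K.normalizerMonoidHom.comp (inclusion hn)
  have m : ∀ x : f.ker, ∀ y ∈ K, Commute (x : F) y := fun x y hy =>
    au_comm (congrArg Subtype.val (DFunLike.congr_fun (MonoidHom.mem_ker.1 x.2) (⟨y, hy⟩ : K)))
  have h1 : Nat.card f.ker ≤ Nat.card χ.ker := Nat.card_le_card_of_injective
    (fun x => ⟨⟨x, hC _ x.1.2 (m x)⟩, hk ▸ mem_center_iff.2 fun y => Subtype.ext (m x y y.2).symm⟩)
    fun x y e => Subtype.ext (Subtype.ext (Subtype.mk.inj (Subtype.mk.inj e)))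
  have h2 := f.ker.index_mul_card
  have h3 := χ.ker.index_mul_card
  have h4 := (K.subgroupOf H).index_mul_card
  rw [index_ker] at h2 h3
  rw [MonoidHom.range_eq_top.2 hs, card_top] at h3
  rw [Core.card_subgroupOf_of_le hKH, ← h3, ← h2, ← mul_assoc] at h4
  exact (Nat.le_of_mul_le_mul_right (h4.le.trans (Nat.mul_le_mul_left _ h1)) Nat.card_pos).trans
    (card_le_card_group _)

theorem au_key (M : M24 D g pt) {d e f : F} (h : CL D [d, e, f]) (ψ : Cl [d, e, f] →* L)
    (hs : Function.Surjective ψ) (hk : ψ.ker ≤ center (Cl [d, e, f])) (φ : MulAut L) :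
    ∃ θ : MulAut (Cl [d, e, f]), (∀ k, φ (ψ k) = ψ (θ k)) ∧
      ∃ y ∈ Ce [d, e, f].prod, ∀ k, (θ k : F) = y * k * y⁻¹ := by
  have := M.finite
  obtain ⟨h1, h2⟩ := F22S.relIndex_Cl M h (by simp) (by simp)
  have hp := F22S.perfect M h (Or.inr rfl)
  letI := Fintype.ofFinite (GaloisField 2 2)
  obtain ⟨-, -, χ, h3, h4⟩ := Fi24T.core_four M h FiLoc.card_gf4 (Cl [d, e, f]).subtype (subtype_injective _)
    (by rw [range_subtype, F22S.Cl_three])
  have hc := au_card (F22S.Cl_le_Ce _) h2 χ h3 h4 (fun x hx c =>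
    F22S.Cl_three d e f ▸ ⟨hx.1, (Fi24T.cent_four_group M h).le (by
      rw [centralizer_closure]
      rintro _ (rfl | rfl) <;>
        exact (c _ (F22S.mul_mem_Cl' M h (by simp) (by simp) (by simp))).symm)⟩)
  obtain ⟨χ', hχ⟩ : ∃ χ' : L →* PSU 6 (GaloisField 2 2) 2, ∀ k, χ' (ψ k) = χ k :=
    ⟨ψ.liftOfSurjective hs ⟨χ, h4 ▸ hk⟩, fun k => by simp⟩
  have hs' : Function.Surjective χ' := fun s => by
    obtain ⟨k, rfl⟩ := h3 s
    exact ⟨_, hχ k⟩
  have hk' : χ'.ker = center L := by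
    ext x
    obtain ⟨k, rfl⟩ := hs x
    rw [MonoidHom.mem_ker, hχ, ← MonoidHom.mem_ker, h4]
    refine ⟨fun hz => mem_center_iff.2 fun y => ?_, fun hz => mem_center_iff.2 fun y => ?_⟩
    · obtain ⟨y, rfl⟩ := hs y
      rw [← map_mul, ← map_mul, mem_center_iff.1 hz]
    · have := au_eq hp (MulAut.conj k).toMonoidHom (MonoidHom.id _) (fun x => ⟨x⁻¹ * (k * x * k⁻¹), hk (by
        rw [MonoidHom.mem_ker, map_mul, map_mul, map_mul, map_inv, map_inv, ← mem_center_iff.1 hz]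
        group), by simp⟩) y
      exact (mul_inv_eq_iff_eq_mul.1 this).symm
  obtain ⟨φ', hφ⟩ := au_ind χ' hs' hk' φ
  obtain ⟨θ, hθ⟩ := au_lift hp χ h3 h4 (le_trans (by
    rw [h1, Cfsg.Agent.S0815.result 2 1 le_rfl (q := 2) rfl FiLoc.card_gf4 6 (by norm_num) (by norm_num)]
    norm_num [Nat.factorial]) hc) φ'
  refine ⟨θ, au_eq hp (φ.toMonoidHom.comp ψ) (ψ.comp θ.toMonoidHom) fun k =>
    ⟨(ψ (θ k))⁻¹ * φ (ψ k), ?_, by simp⟩, F22S.aut_conj' M h (Or.inr rfl) θ⟩
  rw [← hk', MonoidHom.mem_ker, map_mul, map_inv, ← hφ, hχ, hχ, hθ, inv_mul_cancel]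

theorem au_prod (θ : MulAut K) {c : K} (hc : c ∈ center K) (k : ℕ → K) (l : List ℕ)
    (h : ∀ i ∈ l, θ (k i) = k i * c) : θ (l.map k).prod = (l.map k).prod * c ^ l.length := by
  induction l with
  | nil => simp
  | cons a l ih =>
    rw [List.map_cons, List.prod_cons, map_mul, h a (by simp), ih fun i hi => h i (by simp [hi]),
      List.length_cons, pow_succ', mul_assoc, ← mul_assoc c, ← mem_center_iff.1 hc]
    group

theorem au_gen (M : M24 D g pt) {d e f : F} (h : CL D [d, e, f]) (ι : L →* Fi22) (hi : Function.Injective ι)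
    (hr : ι.range = centralizer {z22}) :
    (∀ (φ : MulAut L) x, ι x ∈ D22 → ι (φ x) ∈ D22) ∧ (∀ φ ψ : MulAut L, ¬Inn φ → ¬Inn ψ → Inn (φ * ψ)) ∧
      ∀ (φ : MulAut L) (B : ℕ → L), (∀ i < 22, ι (B i) = b22 pt22 i) → (∀ i < 22, φ (B i) = B i) → Inn φ := by
  have := M.finite
  obtain ⟨π, p1, p2, -, p4⟩ := md M h
  let ε := (MonoidHom.ofInjective hi).symm
  let ψ : Cl [d, e, f] →* L := ε.toMonoidHom.comp (π.codRestrict ι.range fun k => by
    rw [hr, ← p1]; exact ⟨k, rfl⟩)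
  have hψ : ∀ k, ι (ψ k) = π k := fun k => MonoidHom.apply_ofInjective_symm hi _
  have hs : Function.Surjective ψ := fun x => by
    obtain ⟨k, hk⟩ : ι x ∈ π.range := by rw [p1, ← hr]; exact ⟨x, rfl⟩
    exact ⟨k, hi (by rw [hψ, hk])⟩
  have h1 : ∀ k, ψ k = 1 ↔ k.1 = 1 ∨ k.1 = e * f := fun k => by
    rw [← p2, ← hψ, map_eq_one_iff _ hi]
  have hef := h.tail
  have cef : Commute e f := h.2.2 e (by simp) f (by simp)
  have hD := M.grp.1
  have he : e ∈ D := h.2.1 e (by simp)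
  have hf : f ∈ D := h.2.1 f (by simp)
  let c : Cl [d, e, f] := ⟨e * f, F22S.mul_mem_Cl' M h (by simp) (by simp) (by simp)⟩
  have c1 : e * f ≠ 1 := by simpa using hef.prod_ne_one M.prim (by simp) (by simp)
  have c2 : c * c = 1 := Subtype.ext (by simpa using hef.prod_sq hD)
  have cc : c ∈ center (Cl [d, e, f]) := mem_center_iff.2 fun k => Subtype.ext
    (((F22S.mem_Cl.1 k.2).2 e (by simp)).mul_right ((F22S.mem_Cl.1 k.2).2 f (by simp))).eq
  have hk : ψ.ker ≤ center (Cl [d, e, f]) := fun k hk => by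
    rcases (h1 k).1 hk with e1 | e1
    · rw [show k = 1 from Subtype.ext e1]; exact one_mem _
    · rw [show k = c from Subtype.ext e1]; exact cc
  have key : ∀ φ : MulAut L, ∃ θ : MulAut (Cl [d, e, f]), (∀ k, φ (ψ k) = ψ (θ k)) ∧ θ c = c ∧
      ∃ y ∈ commutator F, (∀ k, (θ k : F) = y * k * y⁻¹) ∧ Commute y d ∧
        ((Commute y e ∧ Commute y f) ∨ (y * e * y⁻¹ = f ∧ y * f * y⁻¹ = e)) := fun φ => by
    obtain ⟨θ, a1, y, hy, a2⟩ := au_key M h ψ hs hk φ
    have a3 : θ c = c := by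
      rcases (h1 (θ c)).1 (by rw [← a1, (h1 c).2 (Or.inr rfl), map_one]) with e1 | e1
      · exact absurd (congrArg Subtype.val (θ.map_eq_one_iff.1 (Subtype.ext e1))) c1
      · exact Subtype.ext e1
    have a4 : Commute y (e * f) := au_comm ((a2 c).symm.trans (congrArg Subtype.val a3))
    have a5 : Commute y (d * (e * f)) := by simpa using (F22S.mem_Ce.1 hy).2
    refine ⟨θ, a1, a3, y, hy.1, a2, ?_, Fi24T.fix_or_swap M hef a4⟩
    simpa only [mul_inv_cancel_right] using a5.mul_right a4.inv_right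
  have inn : ∀ (φ : MulAut L) (θ : MulAut (Cl [d, e, f])) (y : F), (∀ k, φ (ψ k) = ψ (θ k)) → y ∈ commutator F →
      (∀ k, (θ k : F) = y * k * y⁻¹) → Commute y d → Commute y e → Commute y f → Inn φ :=
    fun φ θ y a1 a2 a3 a4 a5 a6 => by
      have hy : y ∈ Cl [d, e, f] := F22S.mem_Cl.2 ⟨a2, by simp [a4, a5, a6]⟩
      refine ⟨ψ ⟨y, hy⟩, MulEquiv.ext fun x => ?_⟩
      obtain ⟨k, rfl⟩ := hs x
      rw [a1, MulAut.conj_apply, ← map_inv, ← map_mul, ← map_mul]
      exact congrArg ψ (Subtype.ext (a3 k))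
  have cjx : ∀ {y x : F}, ((Commute y e ∧ Commute y f) ∨ (y * e * y⁻¹ = f ∧ y * f * y⁻¹ = e)) →
      CL D [e, f, x] → CL D [e, f, y * x * y⁻¹] := fun {y x} a hx => by
    have := hx.cj M.grp.2.1 y
    simp only [cjL, List.map_cons, List.map_nil] at this
    rcases a with a | a
    · rwa [a.1.eq, a.2.eq, mul_inv_cancel_right, mul_inv_cancel_right] at this
    · rw [a.1, a.2] at this
      exact (this.perm (List.Perm.swap _ _ _)).1
  refine ⟨fun φ x hx => ?_, fun φ φ' n n' => ?_, fun φ B hB hφ => ?_⟩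
  · obtain ⟨k, rfl⟩ := hs x
    obtain ⟨θ, a1, -, y, -, a2, -, a3⟩ := key φ
    rw [hψ] at hx
    rw [a1, hψ]
    obtain ⟨x, b1, b2⟩ := (p4 k).1 hx
    refine (p4 _).2 ⟨_, cjx a3 b1, ?_⟩
    rw [a2]
    have e1 : ∀ a, y * (a * x) * y⁻¹ = y * a * y⁻¹ * (y * x * y⁻¹) := fun a => by group
    rcases b2 with b2 | b2 <;> rcases a3 with a3 | a3 <;> rw [b2, e1]
    · left; rw [a3.1.eq, mul_inv_cancel_right]
    · right; rw [a3.1]
    · right; rw [a3.2.eq, mul_inv_cancel_right]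
    · left; rw [a3.2]
  · obtain ⟨θ, a1, -, y, a2, a3, a4, a5⟩ := key φ
    obtain ⟨θ', b1, -, y', b2, b3, b4, b5⟩ := key φ'
    have a6 := a5.resolve_left fun a => n (inn φ θ y a1 a2 a3 a4 a.1 a.2)
    have b6 := b5.resolve_left fun a => n' (inn φ' θ' y' b1 b2 b3 b4 a.1 a.2)
    have e1 : ∀ a, y * y' * a * (y * y')⁻¹ = y * (y' * a * y'⁻¹) * y⁻¹ := fun a => by group
    refine inn _ (θ * θ') (y * y') (fun k => by rw [MulAut.mul_apply, MulAut.mul_apply, b1, a1])
      (mul_mem a2 b2) (fun k => by rw [MulAut.mul_apply, a3, b3, e1]) (a4.mul_left b4)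
      (au_comm (by rw [e1, b6.1, a6.2])) (au_comm (by rw [e1, b6.2, a6.1]))
  · obtain ⟨θ, a1, a0, y, a2, a3, a4, a5⟩ := key φ
    by_contra n
    have a6 := a5.resolve_left fun a => n (inn φ θ y a1 a2 a3 a4 a.1 a.2)
    choose k hk' using fun i => hs (B i)
    have a7 : ∀ i < 22, θ (k i) = k i * c := fun i hi' => by
      obtain ⟨x, b1, b2⟩ := (p4 (k i)).1 (by rw [← hψ, hk', hB i hi']; exact m22_fi.bm.mem i hi')
      rcases (h1 ((k i)⁻¹ * θ (k i))).1 (by rw [map_mul, map_inv, ← a1, hk', hφ i hi', inv_mul_cancel]) with e1 | e1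
      · exfalso
        have b3 := cjx a5 b1
        have e2 : (k i : F) = y * k i * y⁻¹ := by rw [← a3]; exact inv_mul_eq_one.1 e1
        have cex : Commute e x := b1.2.2 e (by simp) x (by simp)
        have cfx : Commute f x := b1.2.2 f (by simp) x (by simp)
        have hx : x ∈ D := b1.2.1 x (by simp)
        have e3 : y * x * y⁻¹ = e * f * x := by
          have e4 : ∀ a, y * (a * x) * y⁻¹ = y * a * y⁻¹ * (y * x * y⁻¹) := fun a => by group
          rcases b2 with b2 | b2 <;> rw [b2, e4] at e2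
          · rw [a6.1] at e2
            rw [cef.eq, mul_assoc f, e2, cancel hD hf]
          · rw [a6.2] at e2
            rw [mul_assoc e, e2, cancel hD he]
        rw [e3] at b3
        have b4 : CL D [e * f * x, x, e, f] := F22S.cl_cons₂ (b1.perm (List.perm_append_comm (l₁ := [e, f]))).1
          (b3.perm (List.perm_append_comm (l₁ := [e, f]))).1 (fun e5 => c1 (mul_eq_right.1 e5))
          ((cex.mul_left cfx).mul_left (Commute.refl x))
        refine b4.prod_ne_one M.prim (by simp) (by simp) ?_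
        simp only [List.prod_cons, List.prod_nil, mul_one]
        rw [mul_assoc, cancel hD hx]
        exact congrArg Subtype.val c2
      · exact inv_mul_eq_iff_eq_mul.1 (Subtype.ext e1)
    have a8 := au_prod θ cc k (bitL 22 1081660) fun i hi' => a7 i (mem_bitL.1 hi').1
    have a9 : ψ ((bitL 22 1081660).map k).prod = 1 := by
      apply hi
      rw [map_list_prod, map_list_prod, List.map_map, List.map_map, map_one,
        ← m22_fi.bm.prod_bitL_eq_one b22_hept.1]
      congr 1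
      exact List.map_congr_left fun i hi' => by simp [hk', hB i (mem_bitL.1 hi').1]
    have b1 : θ ((bitL 22 1081660).map k).prod = ((bitL 22 1081660).map k).prod := by
      rcases (h1 _).1 a9 with e1 | e1
      · rw [show ((bitL 22 1081660).map k).prod = 1 from Subtype.ext e1, map_one]
      · rw [show ((bitL 22 1081660).map k).prod = c from Subtype.ext e1, a0]
    rw [b1, left_eq_mul, show (bitL 22 1081660).length = 2 * 3 + 1 by decide, pow_succ, pow_mul, pow_two, c2,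
      one_pow, one_mul] at a8
    exact c1 (congrArg Subtype.val a8)

end

/-- The automorphisms of `2.U₆(2)` are induced by the even centraliser of `d e f` in `Fi₂₄`. -/
theorem au (ι : L →* Fi22) (hi : Function.Injective ι) (hr : ι.range = centralizer {z22}) :
    (∀ (φ : MulAut L) x, ι x ∈ D22 → ι (φ x) ∈ D22) ∧ (∀ φ ψ : MulAut L, ¬Inn φ → ¬Inn ψ → Inn (φ * ψ)) ∧
      ∀ (φ : MulAut L) (B : ℕ → L), (∀ i < 22, ι (B i) = b22 pt22 i) → (∀ i < 22, φ (B i) = B i) → Inn φ :=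
  au_gen m24_fi (F22S.cl_dd m24_fi (l := [0, 1, 2]) (by decide)) ι hi hr

end CfsgLib.F22W
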