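import Cfsg.Agent.Lib.F22W.UDefs

/-! A quaternion group in the centraliser of two commuting transpositions of `Fi₂₂`. -/

set_option autoImplicit false
set_option maxRecDepth 100000

namespace CfsgLib.F22W

open Cfsg Cfsg.Spor CfsgLib.Comput CfsgLib.ThreeTrans CfsgLib.Fischer CfsgLib.FiTool CfsgLib.M22T Subgroup
open CfsgLib.F22S (Inn Cl Ce)

theorem q8_chk : allL (eqP (stepW ps22 c2W) gp22)
    [([0x0803040801040301, 7], [7, 0x0803040801040301]), ([0x0804030801030401, 7], [7, 0x0804030801030401]),
      ([0x0803040801040301, 0x0803040801040301], [7, 5]), ([0x0804030801030401, 0x0804030801030401], [7, 5]),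
      ([0x0803040801040301, 0x0804030801030401, 0x0803040801040301, 0x0804030801030401], [7, 5])] = true := by
  decide +kernel

/-- a certificate: words in the points `c2W` -/
theorem q8_22 : ∃ i j : Fi22, Commute i z22 ∧ Commute j z22 ∧ i * i = z22 * b22 pt22 1 ∧ j * j = z22 * b22 pt22 1 ∧
    i * j * (i * j) = z22 * b22 pt22 1 := by
  have M := m22_fi
  have h := M.fm.allHold M.base c2W q8_chk
  have e7 : ev (lw g22 c2W) 7 = z22 := by
    rw [ev_digit _ (by norm_num), z22, b22_0]; exact ev_digit g22 (d := 1) (by norm_num)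
  have e5 : ev (lw g22 c2W) 5 = b22 pt22 1 := by
    rw [ev_digit _ (by norm_num)]
    exact (ev_digit g22 (d := 3) (by norm_num)).trans (pt22_gen' 2 (by norm_num)).symm
  simp only [AllHold, List.mem_cons, List.not_mem_nil, or_false, forall_eq_or_imp, forall_eq, Eqn.Holds, evL,
    List.map_cons, List.map_nil, List.prod_cons, List.prod_nil, mul_one, e7, e5] at h
  obtain ⟨h1, h2, h3, h4, h5⟩ := h
  exact ⟨_, _, h1, h2, h3, h4, by rw [mul_assoc]; exact h5⟩

end CfsgLib.F22W
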