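import Cfsg.Agent.Lib.F22W.RkS
import Cfsg.Agent.S2708
import Cfsg.Agent.S2692

/-! Outer involutions of `U₆(2)` centralise no elementary abelian group of order `2⁸`. -/

set_option autoImplicit false
set_option maxRecDepth 100000

namespace CfsgLib.F22W

open Cfsg Subgroup CfsgLib.S86

theorem rk_gen {X : Type*} [Group X] (hZ : center X = ⊥) {D : Subgroup (MulAut X)} (hD : Inn X ≤ D)
    {γ γ₁ : MulAut X} (hc : IsConjUnder D γ₁ γ) (f : ↥(D ⊓ centralizer {γ₁}) →* SM)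
    (hf : Function.Injective f) (U : Subgroup X) (h : ∀ x ∈ U, x * x = 1 ∧ γ x = x) :
    Nat.card U < 2 ^ 8 := by
  obtain ⟨k, hk, rfl⟩ := hc
  let ψ : U →* ↥(D ⊓ centralizer {γ₁}) :=
    ((MulAut.conj k⁻¹).toMonoidHom.comp (MulAut.conj.comp U.subtype)).codRestrict _ fun x =>
      ⟨D.mul_mem (D.mul_mem (D.inv_mem hk) (hD ⟨x, rfl⟩)) (D.inv_mem (D.inv_mem hk)),
        mem_centralizer_singleton_iff.2 (by
          have e : MulAut.conj (x : X) * (k * γ₁ * k⁻¹) = k * γ₁ * k⁻¹ * MulAut.conj (x : X) :=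
            MulEquiv.ext fun y => by
              change x * (k * γ₁ * k⁻¹) y * (x : X)⁻¹ = (k * γ₁ * k⁻¹) (x * y * (x : X)⁻¹)
              rw [map_mul, map_mul, map_inv, (h x x.2).2]
          change k⁻¹ * MulAut.conj (x : X) * k⁻¹⁻¹ * γ₁ = γ₁ * (k⁻¹ * MulAut.conj (x : X) * k⁻¹⁻¹)
          calc _ = k⁻¹ * (MulAut.conj (x : X) * (k * γ₁ * k⁻¹)) * k := by group
            _ = _ := by rw [e]; group)⟩
  have hψ : Function.Injective ψ := (injective_iff_map_eq_one ψ).2 fun x hx => by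
    have e : MulAut.conj (x : X) = 1 := (MulAut.conj k⁻¹).injective
      ((congrArg Subtype.val hx).trans (map_one _).symm)
    refine Subtype.ext (hZ.le (mem_center_iff.2 fun y => ?_))
    exact (mul_inv_eq_iff_eq_mul.1 (MulEquiv.congr_fun e y)).symm
  rw [Nat.card_congr (MonoidHom.ofInjective (f := f.comp ψ) (hf.comp hψ)).toEquiv]
  refine sp_rank _ ?_
  rintro _ ⟨x, rfl⟩
  rw [← map_mul, show x * x = 1 from Subtype.ext (h x x.2).1, map_one]

/-- PROOF.  S2692 (p = 2, f = 1, q = 2): γ = δ φ_σ.  If σ = 1 then γ is inner-diagonal, induced by g ∈ GU; g ^ 3 is a scalar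
multiple of an element of SU (det g has order dividing 3), so γ ^ 3 = γ is inner (or: index of Inn in inndiag is 3).
Otherwise σ has order 2, `IsGraphAutClassPSU γ`, orderOf γ = 2, and S2708 (m = 3, F₀ = ZMod 2) embeds
inndiag ⊓ C(γ) ≅ inndiag ⊓ C(γ₁) or C(γ₃) into Sp6(2); conj : PSU → Aut is injective (centre trivial) and maps U into it;
`exists_iso_sp`, `sp_rank`. -/
theorem rk_psu {F : Type*} [Field F] [Fintype F] (hF : Fintype.card F = 2 ^ 2) (γ : MulAut (PSU 6 F 2)) (h2 : γ * γ = 1)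
    (hn : ∀ c, γ ≠ MulAut.conj c) (U : Subgroup (PSU 6 F 2)) (h : ∀ x ∈ U, x * x = 1 ∧ γ x = x) :
    Nat.card U < 2 ^ 8 := by
  have := Fact.mk Nat.prime_two
  have : CharP F 2 := charP_of_card_eq_prime_pow hF
  have hD : Inn (PSU 6 F 2) ≤ inndiagPSU 6 F 2 :=
    ClAut.inndiagPSU_eq' hF ▸ ClAut.inn_le_inndiagPSU hF
  obtain ⟨x, rfl⟩ := ClAut.psuInd_surjective hF (by norm_num) (by norm_num) γ
  have h1 : x.1.right ≠ 1 := fun e => by
    have h3 : ClAut.psuInd 6 F 2 x ∈ (ClAut.linInd (ClAut.psuIndC hF 6)).range :=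
      ClAut.inndiagPSU_eq' hF ▸ subset_closure (ClAut.isInnerDiagonalAutPSU_iff.2 ⟨x, e, rfl⟩)
    have h4 := pow_relIndex_mem (Inn (PSU 6 F 2)) h3
    rw [ClAut.relIndex_inn_su hF (by norm_num), show Nat.gcd 6 (2 + 1) = 2 + 1 by norm_num, pow_succ, sq,
      h2, one_mul] at h4
    obtain ⟨c, hc⟩ := h4
    exact hn c hc.symm
  have h3 : orderOf x.1.right = 2 := orderOf_eq_prime (by
    obtain ⟨c, hc⟩ := (ClAut.psuInd_eq_one_iff hF (by norm_num) (x * x)).1 (by rw [map_mul, h2])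
    rw [sq]
    exact congrArg SemidirectProduct.right hc) h1
  obtain ⟨γ₁, γ₃, t, -, -, -, -, -, -, h4, ⟨e₁⟩, ⟨e₃⟩⟩ :=
    Cfsg.Agent.S2708.result (n := 6) (m := 3) hF (by norm_num) rfl (ZMod 2) (ZMod.card 2)
  obtain ⟨e⟩ := exists_iso_sp
  have hZ := (ClAut.projAct_su hF (n := 6) (by norm_num)).center_eq_bot (ClAut.suTau_mem hF)
  rcases h4 (ClAut.psuInd 6 F 2 x) ⟨by norm_num, ClAut.psuInd 6 F 2 ⟨SemidirectProduct.inl x.1.left,
      ClAut.mem_gamU.2 (ClAut.mem_gamU (x := x.1) |>.1 x.2)⟩, _, x.1.right, by rw [h3]; decide,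
    ClAut.isInnerDiagonalAutPSU_iff.2 ⟨_, rfl, rfl⟩, ClAut.isFieldAutPSUOf_iff.2 rfl, by
      rw [← map_mul]
      exact congrArg _ (Subtype.ext (SemidirectProduct.inl_left_mul_inr_right x.1).symm)⟩
    (orderOf_eq_prime (by rw [sq, h2]) fun e => hn 1 (by rw [e, map_one])) with h5 | h5
  · exact rk_gen hZ hD h5 (e₁.trans e.symm).toMonoidHom (e₁.trans e.symm).injective U h
  · exact rk_gen hZ hD h5 (e.symm.toMonoidHom.comp ((Subgroup.subtype _).comp e₃.toMonoidHom))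
      (e.symm.injective.comp ((subtype_injective _).comp e₃.injective)) U h

end CfsgLib.F22W
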