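import Cfsg.Agent.Lib.F22W.Au
import Cfsg.Agent.Lib.F22W.Rk
import Cfsg.Agent.Lib.F22W.Q8

/-! The frame of `2.U₆(2)`. -/

set_option autoImplicit false
set_option maxRecDepth 100000

namespace CfsgLib.F22W

open Cfsg Cfsg.Spor CfsgLib.Comput CfsgLib.ThreeTrans CfsgLib.Fischer CfsgLib.FiTool CfsgLib.M22T Subgroup
open CfsgLib.F22S (Inn Cl Ce)

variable {L : Type*} [Group L]

theorem fr_ind {P : Type*} [Group P] (ρ : L →* P) (hs : Function.Surjective ρ) (φ : MulAut L)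
    (h : ∀ x, ρ (φ x) = 1 ↔ ρ x = 1) : ∃ γ : MulAut P, ∀ x, γ (ρ x) = ρ (φ x) := by
  let f := ρ.liftOfSurjective hs ⟨ρ.comp φ.toMonoidHom, fun x hx => (h x).2 hx⟩
  have hf : ∀ x, f (ρ x) = ρ (φ x) := fun x => ρ.liftOfRightInverse_comp_apply _ _ _ x
  refine ⟨MulEquiv.ofBijective f ⟨(injective_iff_map_eq_one f).2 fun y hy => ?_, fun y => ?_⟩, hf⟩
  · obtain ⟨x, rfl⟩ := hs y
    exact (h x).1 ((hf x).symm.trans hy)
  · obtain ⟨x, rfl⟩ := hs y
    obtain ⟨x, rfl⟩ := φ.surjective x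
    exact ⟨_, hf x⟩

theorem fr_two {x y a b : Fi22} (hx : x ∈ D22) (hy : y ∈ D22) (ha : a ∈ D22) (hb : b ∈ D22) (ne : a ≠ b)
    (c : Commute a b) (ne' : x ≠ y) (c' : Commute x y) (e : x * y = a * b) : x = a ∨ x = b := by
  simpa using (m22_fi.luniq (m := 2) le_rfl _ _ (CL.pair hx hy ne' c') (CL.pair ha hb ne c) rfl rfl (by simpa using e) x).1
    (by simp)

/-- PROOF: as `F22S.fm0_of` with κ = ι, N = m22_fi, R = mod22 (`bm`, `Cen_eq_V`, `pb.tab' tab22a`, `fix22a`, `iv`, `jf`).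
conjugatesOf (B 1) = ι⁻¹ (perp D22 z22) (`mod22.tr1`, `conj_perp`); this gives cls, emax (`bm.max`), aut1 (`au`; φ (B 1) ≠ B 0 as
B 0 is central), gen (`m22_fi.cent`), cen0 (`m22_fi.zp`), tt, iso (β = a left inverse of ι), four (`CL.prod_ne_one M.prim`).
tri: x = φ B_i, y = φ B_j ∈ D with x y = B_i B_j: x commutes with B_i, B_j (`commute_of_commute_mul`), so {x, y} = {B_i, B_j} by four.
rk: `hom22` gives ρ : C(z22) ↠ PSU with kernel {1, z22}; φ induces γ on PSU, γ inner ⇒ φ inner (φ and conj l agree modulo the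
centre of the perfect group L, or use aut1: both map a point p to an element of D22 ∩ {q, z q} = {q}, and gen); |ρ U| = |U| / 2; `rk_psu`. -/
theorem um0_of (ι : L →* Fi22) (hi : Function.Injective ι) (hr : ι.range = centralizer {z22}) {B : ℕ → L}
    (hB : ∀ i < 22, ι (B i) = b22 pt22 i) : Um0 B := by
  have M := m22_fi
  have R := mod22
  have hm : ∀ x, ι x ∈ centralizer {z22} := fun x => hr ▸ ⟨x, rfl⟩
  have kc : ∀ x, Commute (ι x) z22 := fun x => mem_centralizer_singleton_iff.1 (hm x)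
  have ks : ∀ y, Commute y z22 → ∃ x, ι x = y := fun y hy => hr.ge (mem_centralizer_singleton_iff.2 hy)
  have k0 : ι (B 0) = z22 := hB 0 (by norm_num)
  have k1 := hB 1 (by norm_num)
  have kp : ∀ k ≤ 22, ∀ c, ι (bprod B k c) = bprod (b22 pt22) k c := fun k hk c => by
    rw [F22S.map_bprod]; exact bprod_congr (fun i hi => hB i (by omega)) fun _ _ => rfl
  have lin : Lin 22 10 B co := ⟨by norm_num, fun i h => hi (by rw [map_mul, hB i h, map_one, M.bm.sq h]),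
    fun i h j hj => hi (by rw [map_mul, map_mul, hB i h, hB j hj, (M.bm.comm i h j hj).eq]), M.bm.colt,
    fun i h => hi (by rw [hB i h, kp 10 (by norm_num), ← M.bm.rel i h]),
    fun c hc e1 => M.bm.eq_zero hc (by rw [← kp 10 (by norm_num), e1, map_one])⟩
  have kA : ∀ x, x ∈ AA B ↔ ι x ∈ closure (bset (b22 pt22) 22) := fun x => by
    rw [lin.mem_V, M.bm.mem_V]
    exact exists_congr fun c => and_congr_right fun _ => by rw [← kp 10 (by norm_num), hi.eq_iff]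
  have kE : ∀ x, IsConj (B 1) x ↔ ι x ∈ perp D22 z22 := fun x => by
    refine ⟨fun h => ?_, fun h => ?_⟩
    · obtain ⟨c, rfl⟩ := isConj_iff.1 h
      rw [map_mul, map_mul, map_inv, k1]
      exact R.conj_perp (kc c) R.b1_mem
    · obtain ⟨c, h1, h2⟩ := R.tr1 h
      obtain ⟨c, rfl⟩ := ks c h1
      exact (isConj_iff.2 ⟨c, hi (by rw [map_mul, map_mul, map_inv, h2, k1])⟩).symm
  have eE : ι '' conjugatesOf (B 1) = perp D22 z22 := by
    refine Set.Subset.antisymm (by rintro _ ⟨x, hx, rfl⟩; exact (kE x).1 hx) fun y hy => ?_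
    obtain ⟨x, rfl⟩ := ks y hy.2.2.symm
    exact ⟨x, (kE x).2 hy, rfl⟩
  have gen : closure (conjugatesOf (B 1)) = ⊤ := by
    apply map_injective hi
    rw [MonoidHom.map_closure, eE, ← M.cent _ R.z_mem, ← MonoidHom.range_eq_map, hr]
  have cen0 : ∀ z, z ∈ center L ↔ z = 1 ∨ z = B 0 := fun z => by
    refine ⟨fun h => ?_, ?_⟩
    · rw [← hi.eq_iff, ← hi.eq_iff (a := z), map_one, k0]
      refine M.zp _ R.z_mem _ (kc z) fun y hy => ?_
      obtain ⟨x, rfl⟩ := ks y hy.2.2.symm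
      exact (show Commute z x from (mem_center_iff.1 h x).symm).map ι
    · rintro (rfl | rfl)
      exacts [one_mem _, mem_center_iff.2 fun x => hi (by rw [map_mul, map_mul, k0, (kc x).eq])]
  have t1 : B 0 ≠ 1 := fun e => ne_one M.grp.1 R.z_mem (k0.symm.trans (by rw [e, map_one]))
  have at0 : ∀ φ : MulAut L, φ (B 0) = B 0 := fun φ => by
    refine ((cen0 _).1 (mem_center_iff.2 fun x => ?_)).resolve_left (φ.map_ne_one_iff.2 t1)
    obtain ⟨x, rfl⟩ := φ.surjective x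
    rw [← map_mul, ← map_mul, mem_center_iff.1 ((cen0 _).2 (Or.inr rfl)) x]
  obtain ⟨a1, a2, a3⟩ := au ι hi hr
  have aE : ∀ (φ : MulAut L) x, ι x ∈ perp D22 z22 → ι (φ x) ∈ perp D22 z22 := fun φ x hx =>
    ⟨a1 φ x hx.1, fun e => hx.2.1 (by rw [← k0, ← at0 φ, hi.eq_iff, φ.injective.eq_iff] at e; rw [e, k0]), (kc _).symm⟩
  have bD : ∀ i < 22, ι (B i) ∈ D22 := fun i h => hB i h ▸ M.bm.mem i h
  have bn : ∀ i < 22, ∀ j < 22, i ≠ j → B i ≠ B j := fun i h j hj ne e =>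
    ne (M.bm.inj i h j hj (by rw [← hB i h, ← hB j hj, e]))
  have tt : IsThreeTranspositionSet (conjugatesOf (B 1)) := by
    refine ⟨fun d hd => ?_, fun d hd e he => ?_⟩
    · rw [← orderOf_injective ι hi]; exact M.grp.1.1 _ ((kE d).1 hd).1
    · simpa only [← map_mul, ← map_pow, map_eq_one_iff ι hi] using M.grp.1.2 _ ((kE d).1 hd).1 _ ((kE e).1 he).1
  refine ⟨lin, cen0, fun m => ?_, fun x hx => ?_, fun i h i0 => (kE _).2 (hB i h ▸ R.b_mem i0 h), fun x hx h => ?_,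
    fun s hs => ?_, fun P hP h1 => ?_, a2, fun φ => (kE _).2 (aE φ _ (k1 ▸ R.b1_mem)), fun φ => a3 φ B hB,
    fun φ i h j hj k hk _ _ _ ij ik jk h1 h2 => ?_, fun φ h1 h2 U h3 _ => ?_, ?_, fun l hl h4 e => ?_, gen, tt, ?_⟩
  · have P := M.pb.tab' tab22a
    have h1 := fun i h => smul_cpt_iff.1 (P.step m i h).2
    obtain ⟨c, hc⟩ := ks _ (mul_inv_eq_iff_eq_mul.1 (by rw [h1 0 (by norm_num), fix_tabP (T := ft22a) rfl fix22a m]))
    exact ⟨c, mem_top _, fun i h => ⟨(P.step m i h).1, hi (by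
      rw [map_mul, map_mul, map_inv, hc, hB i h, h1 i h, hB _ (P.step m i h).1])⟩⟩
  · rw [kA, ← M.Cen_eq_V]
    exact mem_Cen.2 fun j hj => hB j hj ▸ (hx j hj).map ι
  · rw [kA] at hx
    have h1 := (kE x).1 h
    obtain ⟨j, hj, e1⟩ := M.bm.max _ h1.1 fun j hj => M.bm.V_comm (subset_closure ⟨j, hj, rfl⟩) hx
    exact ⟨j, hj, fun e => h1.2.1 (by rw [← e1, e]), hi (by rw [hB j hj, e1])⟩
  · obtain ⟨c, h1, h2⟩ := R.iv (ι s) (kc s) (hs.imp (fun e1 => by rw [← map_mul, e1, map_one])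
      fun e1 => by rw [← map_mul, e1, k0])
    obtain ⟨c, rfl⟩ := ks c h1
    exact ⟨c, (kA _).2 (by simpa using h2)⟩
  · obtain ⟨c, h2, h3⟩ := R.jf (P.map ι) (hP.map ι) ⟨_, h1, k0⟩ (by rintro _ ⟨y, -, rfl⟩; exact kc y)
    obtain ⟨c, rfl⟩ := ks c h2
    refine ⟨c, fun U h4 h5 h6 h7 y hy => (kA _).2 ?_⟩
    simpa using h3 (U.map ι) (map_mono h4) (by rintro _ ⟨y, hy, rfl⟩; rw [← map_mul, h5 y hy, map_one]) ⟨_, h6, k0⟩
      (by rwa [card_map_of_injective hi]) _ ⟨y, hy, rfl⟩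
  · have key : ∀ j < 22, i ≠ j → φ (B i * B j) = B i * B j → φ (B i) = B i ∨ φ (B i) = B j := fun j hj ij h1 => by
      rw [← hi.eq_iff, ← hi.eq_iff (b := B j)]
      exact fr_two (a1 φ _ (bD i h)) (a1 φ _ (bD j hj)) (bD i h) (bD j hj) (hi.ne (bn i h j hj ij))
        ((lin.comm i h j hj).map ι) (hi.ne (φ.injective.ne (bn i h j hj ij))) (((lin.comm i h j hj).map φ).map ι)
        (by rw [← map_mul, ← map_mul, h1, map_mul])
    exact (key j hj ij h1).elim id fun e => (key k hk ik h2).resolve_right fun e' => bn j hj k hk jk (e.symm.trans e')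
  · let := Fintype.ofFinite (GaloisField 2 2)
    obtain ⟨β, -, ρ₀, r1, r2, -⟩ := hom22 card_gf4
    let ρ := ρ₀.comp (ι.codRestrict _ hm)
    have rs : Function.Surjective ρ := fun y => by
      obtain ⟨a, rfl⟩ := r1 y
      obtain ⟨x, hx⟩ := hr.ge a.2
      exact ⟨x, congrArg ρ₀ (Subtype.ext hx)⟩
    have rk : ∀ x, ρ x = 1 ↔ x = 1 ∨ x = B 0 := fun x => by
      rw [← hi.eq_iff, ← hi.eq_iff (a := x), map_one, k0]; exact r2 _
    obtain ⟨γ, hγ⟩ := fr_ind ρ rs φ fun x => by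
      rw [rk, rk, φ.map_eq_one_iff, ← φ.injective.eq_iff (a := x) (b := B 0), at0]
    have h5 := rk_psu card_gf4 γ (MulEquiv.ext fun y => by
      obtain ⟨x, rfl⟩ := rs y
      rw [MulAut.mul_apply, hγ, hγ, ← MulAut.mul_apply, h1]; rfl) (fun c e => h2 ?_) (U.map ρ) (by
      rintro _ ⟨x, hx, rfl⟩
      rw [← map_mul, (h3 x hx).1, map_one, hγ, (h3 x hx).2]; exact ⟨rfl, rfl⟩)
    · have : Finite L := Finite.of_injective ι hi
      have h6 := Core.card_map_mul_card_inf_ker ρ U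
      have h7 : Nat.card ↥(U ⊓ ρ.ker) ≤ 2 := by
        have : Nat.card ↥(U ⊓ ρ.ker) ≤ ({1, B 0} : Set L).ncard :=
          Set.ncard_le_ncard (s := ((U ⊓ ρ.ker : Subgroup L) : Set L)) fun x hx => (rk x).1 hx.2
        exact this.trans ((Set.ncard_insert_le _ _).trans (by simp))
      rw [← h6]
      calc _ ≤ Nat.card (U.map ρ) * 2 := Nat.mul_le_mul_left _ h7
        _ < 2 ^ 9 := by omega
    · obtain ⟨l, rfl⟩ := rs c
      refine ⟨l, MulEquiv.toMonoidHom_injective (MonoidHom.eq_of_eqOn_dense gen fun x hx => ?_)⟩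
      have h6 : ρ (φ x * (l * x * l⁻¹)⁻¹) = 1 := by
        rw [map_mul, ← hγ, e, map_inv, map_mul, map_mul, map_inv]; simp
      have h7 := (kE x).1 hx
      refine mul_inv_eq_one.1 (((rk _).1 h6).resolve_right fun e1 => ?_)
      refine R.ne_mul (R.conj_perp (kc l) h7) (aE φ x h7).1 ?_
      rw [mul_inv_eq_iff_eq_mul.1 e1]
      simp only [map_mul, map_inv, k0]
  · obtain ⟨i, j, h1, h2, h3, h4, h5⟩ := q8_22
    obtain ⟨i, rfl⟩ := ks i h1
    obtain ⟨j, rfl⟩ := ks j h2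
    exact ⟨i, j, hi (by simp only [map_mul, h3, k0, k1]), hi (by simp only [map_mul, h4, k0, k1]),
      hi (by simp only [map_mul, h5, k0, k1])⟩
  · refine CL.prod_ne_one M.prim (l := l.map ι) ⟨hl.1.map hi, ?_, ?_⟩ (by simp [h4]) (by simp [h4])
      (by rw [← map_list_prod, e, map_one])
    · simp only [List.forall_mem_map]
      intro a ha
      rcases hl.2.1 a ha with rfl | h
      exacts [bD 0 (by norm_num), ((kE a).1 h).1]
    · simp only [List.forall_mem_map]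
      exact fun a ha b hb => (hl.2.2 a ha b hb).map ι
  · have h1 := KIso.of_hom (E := conjugatesOf (B 1)) ι hi.injOn
    rw [eE] at h1
    obtain ⟨γ, h2, -⟩ := h1.exists_symm (TT.of_conj tt fun g d hd => IsConj.trans hd (isConj_iff.2 ⟨g, rfl⟩))
    exact ⟨γ, h2⟩

/-- PROOF: as `F22S.exists_fm`. -/
theorem exists_um (ι : L →* Fi22) (hi : Function.Injective ι) (hr : ι.range = centralizer {z22}) :
    ∃ B : ℕ → L, Um B := by
  have k : ∀ i < 22, ∃ x, ι x = b22 pt22 i := fun i h =>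
    hr.ge (mem_centralizer_singleton_iff.2 (m22_fi.bm.comm i h 0 (by norm_num)))
  choose! B hB using k
  exact ⟨B, fun c => um0_of (ι.comp (MulAut.conj c⁻¹).toMonoidHom) (hi.comp (MulAut.conj c⁻¹).injective)
    (by rw [MonoidHom.range_comp, MonoidHom.range_eq_top.2 (MulAut.conj c⁻¹).surjective, ← MonoidHom.range_eq_map, hr])
    fun i hi => by simpa [mul_assoc] using hB i hi⟩

end CfsgLib.F22W
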