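import Cfsg.Agent.Lib.F22W.UDefs

/-! Involutions of `2.U₆(2)`. -/

set_option autoImplicit false
set_option maxRecDepth 100000
set_option linter.unusedSectionVars false

namespace CfsgLib.F22W

open Cfsg Cfsg.Spor CfsgLib.Comput CfsgLib.ThreeTrans CfsgLib.Fischer CfsgLib.FiTool CfsgLib.M22T Subgroup
open CfsgLib.F22S (Inn Cl Ce)

open CfsgLib.StdInt

variable {L : Type*} [Group L] [Finite L] {B : ℕ → L}

theorem gd_memA (B : ℕ → L) {i : ℕ} (hi : i < 22) : B i ∈ AA B := subset_closure ⟨i, hi, rfl⟩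

namespace Um0

variable (h : Um0 B)
include h

theorem gd_p1 : bprod B 10 1 = B 0 := bprod_two_pow (j := 0) (by norm_num)

theorem gd_memV (v : ℕ) : bprod B 10 v ∈ AA B := bprod_mem fun _ hi _ => gd_memA B (by omega)

theorem gd_inj {i j : ℕ} (hi : i < 22) (hj : j < 22) (e : B i = B j) : i = j :=
  co_facts.1 i hi j hj (h.lin.eq (h.lin.colt i hi) (h.lin.colt j hj) (by rw [← h.lin.rel i hi, ← h.lin.rel j hj, e]))

theorem gd_t1 : B 0 ≠ 1 := fun e => absurd (h.lin.inj 1 (by norm_num) (h.gd_p1.trans e)) (by norm_num)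

theorem gd_t2 : B 0 * B 0 = 1 := h.lin.sq 0 (by norm_num)

theorem gd_ct (x : L) : Commute x (B 0) := mem_center_iff.1 ((h.cen0 _).2 (Or.inr rfl)) x

theorem gd_word (w : ℕ) : ∃ c, (∀ i < 22, Comput.act ps w i < 22 ∧ c * B i * c⁻¹ = B (Comput.act ps w i)) ∧
    ∀ v, c * bprod B 10 v * c⁻¹ = bprod B 10 (av w v) := by
  choose u _ hu using h.act
  have P : PM u 22 (cpt B) ps := ⟨fun i hi j hj e => h.gd_inj hi hj (CP.mk_inj.1 e),
    fun m i hi => ⟨(hu m i hi).1, smul_cpt_iff.2 (hu m i hi).2⟩⟩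
  have k := fun i hi => (P.act_spec w (i := i) hi).imp_right smul_cpt_iff.1
  exact ⟨_, k, h.lin.conj k⟩

theorem gd_span3 {P : Subgroup L} (hx : ∀ i < 22, 3 ≤ i → B i ∈ P) : ∀ i < 22, B i ∈ P := fun i hi => by
  by_cases h3 : 3 ≤ i
  · exact hx i hi h3
  obtain ⟨e1, e2⟩ := co_facts.2.2 i (by omega)
  rw [h.lin.rel i hi, e1, ← h.lin.syn]
  refine bprod_mem fun j hj h4 => hx j hj ?_
  by_contra h5
  simp [e2 j (by omega)] at h4

theorem gd_cen3 {x : L} (hx : ∀ i < 22, 3 ≤ i → Commute x (B i)) : x ∈ AA B := h.cen x fun i hi =>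
  (mem_centralizer_singleton_iff.1 (h.gd_span3 (P := centralizer {x})
    (fun j hj h3 => mem_centralizer_singleton_iff.2 (hx j hj h3).symm) i hi)).symm

theorem gd_fix_of_or {x : L} {r : ℕ} (hr : r < 2 ^ 10) {i : ℕ} (hi : i < 22) (h1 : ∀ j < 22, co j ≠ co i ^^^ r)
    (h2 : x * B i * x⁻¹ = B i ∨ x * B i * x⁻¹ = B i * bprod B 10 r) : Commute x (B i) := by
  refine mul_inv_eq_iff_eq_mul.1 (h2.resolve_right fun e => ?_)
  obtain ⟨j, hj, e1⟩ := h.max x i hi (e ▸ mul_mem (gd_memA B hi) (h.gd_memV r))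
  refine h1 j hj (h.lin.eq (h.lin.colt j hj) (Nat.xor_lt_two_pow (h.lin.colt i hi) hr) ?_)
  rw [h.lin.xor, ← h.lin.rel j hj, ← h.lin.rel i hi, e1, e]

variable {r a m : ℕ} {ws us ms : List ℕ}

theorem gd_pair_mem (R : Rep r ws us ms a m) {j : ℕ} (hj : j < 2) {i : ℕ} (hi : i < 22) :
    Comput.act ps (nth 0 ws j) i < 22 ∧
      B i * B (Comput.act ps (nth 0 ws j) i) ∈ Wf (MulAut.conj (bprod B 10 r)) := by
  obtain ⟨c, h1, h2⟩ := h.gd_word (nth 0 ws j)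
  obtain ⟨h3, -, h4⟩ := R.2.1 j hj
  have h5 : c ^ 3 ∈ AA B := h.cen _ fun i hi => mul_inv_eq_iff_eq_mul.1 (by
    rw [show c ^ 3 * B i * (c ^ 3)⁻¹ = c * (c * (c * B i * c⁻¹) * c⁻¹) * c⁻¹ by simp [pow_succ, mul_assoc], (h1 i hi).2, (h1 _ (h1 i hi).1).2,
      (h1 _ (h1 _ (h1 i hi).1).1).2, h4 i hi])
  have h6 : Commute (bprod B 10 r) c := (mul_inv_eq_iff_eq_mul.1 ((h2 r).trans (by rw [h3])) : Commute c _).symm
  have h7 : c ^ 4 ∈ Wf (MulAut.conj (bprod B 10 r)) := mem_Wf_conj (odd_of_pow (n := 3) (by decide) (by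
    rw [show (c ^ 4) ^ 3 = (c ^ 3 * c ^ 3) ^ 2 by group, h.lin.V_sq h5, one_pow])) (h6.pow_right 4)
  have h8 := mul_mem (conj_mem_Wf (a := B i) (mul_inv_eq_iff_eq_mul.2 (h.lin.V_comm (h.gd_memV r) (gd_memA B hi))) h7) (inv_mem h7)
  refine ⟨(h1 i hi).1, ?_⟩
  convert h8 using 1
  rw [← (h1 i hi).2, inv_eq_of_mul_eq_one_right (h.lin.sq i hi),
    show B i * c ^ 4 * B i * (c ^ 4)⁻¹ = B i * (c * (c ^ 3 * B i * (c ^ 3)⁻¹) * c⁻¹) by group,
    (h.lin.V_comm h5 (gd_memA B hi)).eq, mul_inv_cancel_right]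

theorem gd_span_mem (R : Rep r ws us ms a m) {S : ℕ} : bprod B 10 (synM (dW ws) 44 S) ∈ Wf (MulAut.conj (bprod B 10 r)) := by
  rw [← h.lin.bprod_bprod]
  refine bprod_mem fun j hj _ => ?_
  have h1 := h.gd_pair_mem R (j := j / 22) (by omega) (i := j % 22) (by omega)
  rw [dW, h.lin.xor, ← h.lin.rel _ h1.1, ← h.lin.rel _ (by omega)]
  exact h1.2

theorem gd_zc (R : Rep r ws us ms a m) {z : L} (hz : ∀ x, Commute x (bprod B 10 r) → Commute x z) :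
    z = 1 ∨ z = B 0 ∨ z = bprod B 10 r ∨ z = bprod B 10 r * B 0 := by
  obtain ⟨v, hv, rfl⟩ := h.lin.mem_V.1 (h.cen z fun i hi => (hz _ (h.lin.V_comm (gd_memA B hi) (h.gd_memV r))).symm)
  rcases bor_eq_true.1 (allI_zero R.2.2.2.2.1 v hv) with e | e
  · have e := memL_sound e
    simp only [List.mem_cons, List.not_mem_nil, or_false] at e
    rcases e with rfl | rfl | rfl | rfl
    exacts [Or.inl (bprod_zero _ _), Or.inr (Or.inl h.gd_p1), Or.inr (Or.inr (Or.inl rfl)),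
      Or.inr (Or.inr (Or.inr (by rw [h.lin.xor, h.gd_p1])))]
  · obtain ⟨j, hj, e⟩ := anyI_sound e
    obtain ⟨c, h1, h2⟩ := h.gd_word (nth 0 us j)
    refine absurd (h.lin.eq (synM_lt (fun i hi => h.lin.colt _ (h1 i (by omega)).1) v) hv ?_) (ne_of_bnot_beq e)
    exact (h2 v).symm.trans (mul_inv_eq_iff_eq_mul.2
      (hz c (mul_inv_eq_iff_eq_mul.1 ((h2 r).trans (by rw [(R.2.1 j hj).2.1])))))

theorem gd_fix0 (R : Rep r ws us ms a m) {φ : MulAut L} (hφ : ∀ v ∈ Wf (MulAut.conj (bprod B 10 r)), Two v → φ v = v) :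
    ∃ x ∈ AA B, φ = MulAut.conj x := by
  have k : ∀ i < 22, 3 ≤ i → φ (B i) = B i := fun i hi h3 => by
    obtain ⟨⟨j, hj, a1, a2, a3, a4, a5⟩, -⟩ := R.2.2.2.1 i hi h3
    have k1 := fun i hi => h.gd_pair_mem R hj (i := i) hi
    have k2 := fun i hi => hφ _ (k1 i hi).2 (two_of_sq (h.lin.V_sq (mul_mem (gd_memA B hi) (gd_memA B (k1 i hi).1))))
    have k3 := k2 _ (k1 _ (k1 i hi).1).1
    rw [(R.2.1 j hj).2.2 i hi, (h.lin.comm _ (k1 _ (k1 i hi).1).1 i hi).eq] at k3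
    exact h.tri φ i hi _ (k1 i hi).1 _ (k1 _ (k1 i hi).1).1 (by omega) a1 a2 a3 a4 a5 (k2 i hi) k3
  have k' : ∀ i < 22, φ (B i) = B i := h.gd_span3 (P := φ.toMonoidHom.eqLocus (MonoidHom.id L)) k
  obtain ⟨x, rfl⟩ := h.fx φ k'
  exact ⟨x, h.cen x fun i hi => mul_inv_eq_iff_eq_mul.1 (k' i hi), rfl⟩

theorem gd_aut_mem {P : Subgroup L} (hP : IsPGroup 2 P) (hA : AA B ≤ P) {φ : MulAut L} (hφ : ∀ x ∈ AA B, φ x ∈ P) {x : L}
    (hx : x ∈ AA B) : φ x ∈ AA B := by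
  have h0 := gd_memA B (show 0 < 22 by norm_num)
  obtain ⟨c, hc⟩ := h.jf P hP (hA h0)
  have h1 := hc _ hA (fun y => h.lin.V_sq) h0 h.lin.card_V.ge
  have h2 := hc ((AA B).map φ.toMonoidHom) (by rintro _ ⟨y, hy, rfl⟩; exact hφ y hy)
    (by rintro _ ⟨y, hy, rfl⟩; rw [← map_mul, h.lin.V_sq hy, map_one]) ⟨_, h0, h.aut_t φ⟩
    (by rw [card_map_of_injective φ.injective]; exact h.lin.card_V.ge) _ ⟨x, hx, rfl⟩
  exact (mem_normalizer_iff.1 (mem_normalizer_fintype h1) _).2 h2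

theorem gd_nrm0 (R : Rep r ws us ms a m) (h1 : bprod B 10 r ≠ 1) {w : L} (ho : Odd (orderOf w)) (hw : Commute w (bprod B 10 r))
    (hn : ∀ x ∈ Nc (bprod B 10 r) w, x * x = 1 → x = 1 ∨ x = bprod B 10 r) : Odd (Nat.card (Nc (bprod B 10 r) w)) := by
  have hs := h.gd_memV r
  generalize hr : bprod B 10 r = s at *
  let C := centralizer {s}
  have mC : ∀ {x}, x ∈ C ↔ Commute x s := mem_centralizer_singleton_iff
  have hN : Nc s w ≤ C := (closure_le _).2 (by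
    rintro _ ⟨a, ha, rfl⟩; exact mC.2 ((ha.mul_left hw).mul_left ha.inv_left))
  have hA : AA B ≤ C := fun x hx => mC.2 (h.lin.V_comm hx hs)
  have pA : IsPGroup 2 (AA B) := IsPGroup.of_card h.lin.card_V
  obtain ⟨S, hS⟩ := (pA.comap_subtype (K := C)).exists_le_sylow
  have k : ∀ x ∈ Nc s w, Two x → x = 1 ∨ x = s := fun x hx ⟨n, hn2⟩ => by
    obtain ⟨c, hc⟩ := exists_conj_mem_sylow S (P := zpowers (⟨x, hN hx⟩ : C)) (by
      obtain ⟨n, -, e⟩ := (Nat.dvd_prime_pow Nat.prime_two).1 (orderOf_dvd_of_pow_eq_one hn2)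
      exact IsPGroup.of_card (by rw [Nat.card_zpowers, ← orderOf_coe, e]))
    have h2 := hc _ (mem_zpowers _)
    have h3 := conj_mem_Nc (mC.1 c.2) hx
    have h4 : (c : L) * x * (c : L)⁻¹ ∈ (S : Subgroup C).map C.subtype := ⟨_, h2, rfl⟩
    suffices e : (c : L) * x * (c : L)⁻¹ = 1 ∨ (c : L) * x * (c : L)⁻¹ = s from
      e.imp conj_eq_one_iff.1 fun e => (MulAut.conj (c : L)).injective (e.trans (mul_inv_eq_iff_eq_mul.2 (mC.1 c.2)).symm)
    generalize (c : L) * x * (c : L)⁻¹ = y at h3 h4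
    have h5 : AA B ≤ (S : Subgroup C).map C.subtype := fun a ha => ⟨⟨a, hA ha⟩, hS ha, rfl⟩
    refine hn y h3 (h.lin.V_sq (h.gd_cen3 fun i hi h6 => h.gd_fix_of_or R.1 hi (R.2.2.2.1 i hi h6).2 ?_))
    have h7 : y * B i * y⁻¹ ∈ AA B := h.gd_aut_mem (S.isPGroup'.map _) h5 (φ := MulAut.conj y)
      (fun a ha => mul_mem (mul_mem h4 (h5 ha)) (inv_mem h4)) (gd_memA B hi)
    have h8 := hn _ (mul_mem (conj_mem_Nc (mC.1 (hA (inv_mem (gd_memA B hi)))) h3) (inv_mem h3)) (by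
      have := h.lin.V_sq (mul_mem (inv_mem (gd_memA B hi)) h7)
      simpa only [mul_assoc, inv_inv] using this)
    rw [hr]
    refine h8.imp (fun e => ?_) fun e => ?_
    · conv_rhs => rw [← mul_one (B i), ← e]
      group
    · rw [← e]; group
  by_cases hs' : s ∈ Nc s w
  swap
  · by_contra h2
    obtain ⟨x, hx, h3, h4⟩ := exists_invol h2
    exact hs' ((hn x hx h3).resolve_left h4 ▸ hx)
  let s' : Nc s w := ⟨s, hs'⟩
  have c1 : ∀ x : Nc s w, Commute x s' := fun x => Subtype.ext (mC.1 (hN x.2))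
  have s2 : s' * s' = 1 := Subtype.ext (h.lin.V_sq hs)
  have a : Half (zpowers s') ⊤ s' := ⟨mem_zpowers _, mem_top _, fun e => h1 (congrArg Subtype.val e), s2,
    fun l ⟨n, hl⟩ k _ => hl ▸ (c1 k).symm.zpow_left n, fun x hx _ => (ExtraTwo.mem_zpowers_iff_of_mul_self s2).1 hx,
    fun x _ l ⟨n, hl⟩ => by rw [← hl, ((c1 x).zpow_right n).eq, mul_inv_cancel_right]; exact ⟨n, rfl⟩,
    fun _ _ _ _ => mem_top _, fun x _ _ => ⟨1, one_mem _, x, mem_top _, (one_mul x).symm⟩, fun _ _ _ _ x _ => c1 x⟩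
  obtain ⟨θ, hθ⟩ := a.exists_th fun x _ hx => (k x x.2 (two_coe.2 hx)).imp Subtype.ext Subtype.ext
  have h2 : Nc s w ≤ θ.map (Nc s w).subtype := (closure_le _).2 fun x hx =>
    ⟨⟨x, subset_closure hx⟩, (hθ.mem _).2 ⟨mem_top _, by
      obtain ⟨a, -, rfl⟩ := hx
      rw [← orderOf_coe]; exact odd_conj a ho⟩, rfl⟩
  rw [le_antisymm h2 (map_subtype_le _), card_map_of_injective (subtype_injective _)]
  exact hθ.odd

end Um0

namespace Um

variable (h : Um B)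
include h

theorem gd_rep {s : L} (h1 : s * s = 1) (h2 : s ≠ 1) (h3 : s ≠ B 0) :
    ∃ B', Um B' ∧ B' 0 = B 0 ∧ ∃ r ws us ms a m, Rep r ws us ms a m ∧ bprod B' 10 r = s := by
  have f := h.f
  obtain ⟨c, hc⟩ := f.iv s (Or.inl h1)
  obtain ⟨v, hv, e⟩ := f.lin.mem_V.1 hc
  obtain ⟨M, hM⟩ := exists_msk 10 B {x | IsConj s x}
  have k : ∀ r ws us ms a m, Rep r ws us ms a m → IsConj s (bprod B 10 r) →
      ∃ B', Um B' ∧ B' 0 = B 0 ∧ ∃ r ws us ms a m, Rep r ws us ms a m ∧ bprod B' 10 r = s := fun r ws us ms a m R hr => by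
    obtain ⟨u, hu⟩ := isConj_iff.1 hr.symm
    exact ⟨_, h.conj u, mul_inv_eq_iff_eq_mul.2 (f.gd_ct u), r, ws, us, ms, a, m, R, (conj_bprod u B 10 r).symm.trans hu⟩
  rcases bor_eq_true.1 (f.lin.orb f.act orb1 (fun c _ x hx => IsConj.trans hx (isConj_iff.2 ⟨c, rfl⟩)) hM
    fun _ _ => rfl) with e1 | e1
  · have := (hM v).2 ⟨hv, e ▸ isConj_iff.2 ⟨c, rfl⟩⟩
    simp [Nat.eq_of_beq_eq_true e1] at this
  · obtain ⟨r, hr, e1⟩ := FiTool.anyL_sound e1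
    have e2 : IsConj s (bprod B 10 r) := ((hM r).1 (tb_eq M r ▸ e1)).2
    simp only [List.mem_cons, List.not_mem_nil, or_false] at hr
    rcases hr with rfl | rfl | rfl | rfl | rfl | rfl | rfl
    · exact absurd (isConj_one_left.1 (bprod_zero B 10 ▸ e2)) h2
    · obtain ⟨u, hu⟩ := isConj_iff.1 e2.symm
      rw [f.gd_p1, (f.gd_ct u).eq, mul_inv_cancel_right] at hu
      exact absurd hu.symm h3
    exacts [k _ _ _ _ _ _ rep2 e2, k _ _ _ _ _ _ rep3 e2, k _ _ _ _ _ _ rep6 e2, k _ _ _ _ _ _ rep7 e2, k _ _ _ _ _ _ rep14 e2]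

theorem gd_zc {y z : L} (h1 : y * y = 1) (h2 : y ≠ 1) (h3 : y ≠ B 0) (hz : ∀ x, Commute x y → Commute x z) :
    z = 1 ∨ z = B 0 ∨ z = y ∨ z = y * B 0 := by
  obtain ⟨B', h', e, r, ws, us, ms, a, m, R, rfl⟩ := h.gd_rep h1 h2 h3
  exact e ▸ h'.f.gd_zc R hz

theorem good0 : Good0 (B 0) where
  ne := h.f.gd_t1
  sq := h.f.gd_t2
  cen := h.f.cen0
  out2 φ ho := by
    by_contra hn
    obtain ⟨l, hl⟩ := h.f.idx φ φ hn hn
    obtain ⟨k, hk⟩ := ho
    refine hn ⟨l ^ (k + 1), ?_⟩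
    rw [map_pow, ← hl, ← pow_two, ← pow_mul, show 2 * (k + 1) = 2 * k + 1 + 1 by ring, ← hk, pow_succ, pow_orderOf_eq_one, one_mul]
  nrm s w h1 h2 h3 h4 h5 := by
    obtain ⟨B', h', e, r, ws, us, ms, a, m, R, rfl⟩ := h.gd_rep h1 h2 h3
    by_contra! hn
    exact hn.1 (h'.f.gd_nrm0 R h2 h4 h5 fun x hx h6 => or_iff_not_imp_left.2 (hn.2 x hx h6))
  fix s φ h1 h2 h3 _ _ h6 := by
    obtain ⟨B', h', e, r, ws, us, ms, a, m, R, e1⟩ := h.gd_rep h1 h2 h3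
    obtain ⟨x, hx, rfl⟩ := h'.f.gd_fix0 R (e1 ▸ h6)
    have x2 := h'.f.lin.V_sq hx
    have c0 := conj_eq_one h.f.cen0 (l := B 0)
    by_cases a1 : x = 1 ∨ x = B 0
    · exact Or.inl ((conj_eq_one h.f.cen0).2 a1)
    by_cases a2 : x = s ∨ x = s * B 0
    · refine Or.inr (Or.inl (a2.elim (fun e => by rw [e]) fun e => ?_))
      rw [e, map_mul, c0.2 (Or.inr rfl), mul_one]
    rw [not_or] at a1 a2
    refine Or.inr (Or.inr ⟨by rw [← map_mul, x2, map_one], ?_, ?_⟩) <;> by_contra! hn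
    · rcases h.gd_zc x2 a1.1 a1.2 fun y hy => hn y (mul_inv_eq_iff_eq_mul.2 hy.symm) with e | e | e | e
      exacts [h2 e, h3 e, a2.1 e.symm, a2.2 (by rw [e, mul_assoc, h.f.gd_t2, mul_one])]
    · rcases h.gd_zc h1 h2 h3 fun y hy => (mul_inv_eq_iff_eq_mul.1 (hn y hy) : Commute x y).symm with e | e | e | e
      exacts [a1.1 e, a1.2 e, a2.1 e, a2.2 e]

theorem f6 {s : L} (h1 : s * s = 1) (h2 : s ≠ 1) (h3 : s ≠ B 0) : ∃ V : Subgroup L,
    (∀ v ∈ V, v * v = 1) ∧ s ∈ V ∧ 2 ^ 9 ≤ Nat.card V ∧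
      ∀ v ∈ V, v ∈ Wf (MulAut.conj s) ∨ v * s ∈ Wf (MulAut.conj s) := by
  obtain ⟨B', h', -, r, ws, us, ms, a, m, R, rfl⟩ := h.gd_rep h1 h2 h3
  have f := h'.f
  have l : Lin 9 9 (fun j => bprod B' 10 (vW r ws ms j)) (2 ^ ·) :=
    ⟨le_rfl, fun i _ => f.lin.V_sq (f.gd_memV _), fun i _ j _ => f.lin.V_comm (f.gd_memV _) (f.gd_memV _),
      fun i hi => Nat.pow_lt_pow_right one_lt_two hi, fun i hi => (bprod_two_pow (b := fun j => bprod B' 10 (vW r ws ms j)) hi).symm, fun c hc e => by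
        rw [f.lin.bprod_bprod] at e
        rcases bor_eq_true.1 (allI_zero R.2.2.2.2.2 c hc) with e1 | e1
        · exact Nat.eq_of_beq_eq_true e1
        · refine absurd (f.lin.inj _ (synM_lt (fun i _ => ?_) c) e) (ne_of_bnot_beq e1)
          rw [vW]
          split_ifs
          · exact R.1
          · exact synM_lt (fun j hj => Nat.xor_lt_two_pow (f.lin.colt _ (by omega))
              (f.lin.colt _ (f.gd_pair_mem R (j := j / 22) (by omega) (i := j % 22) (by omega)).1)) _⟩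
  refine ⟨_, fun v => l.V_sq, subset_closure ⟨8, by norm_num, by simp [vW]⟩, l.card_V.ge, fun v hv => ?_⟩
  have k : ∀ v ∈ closure (bset (fun j => bprod B' 10 (vW r ws ms j)) 9), v ∈ AA B' ∧
      (v ∈ Wf (MulAut.conj (bprod B' 10 r)) ∨ v * bprod B' 10 r ∈ Wf (MulAut.conj (bprod B' 10 r))) := fun v hv => by
    induction hv using closure_induction with
    | mem x hx =>
      obtain ⟨j, -, rfl⟩ := hx
      refine ⟨f.gd_memV _, ?_⟩
      by_cases e : j = 8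
      · exact Or.inr (by simp only [vW, if_pos e, h1]; exact one_mem _)
      · exact Or.inl (by simp only [vW, if_neg e]; exact f.gd_span_mem R)
    | one => exact ⟨one_mem _, Or.inl (one_mem _)⟩
    | mul x y _ _ hx hy =>
      have c := (f.lin.V_comm hy.1 (f.gd_memV r)).eq
      refine ⟨mul_mem hx.1 hy.1, ?_⟩
      rcases hx.2 with a1 | a1 <;> rcases hy.2 with a2 | a2
      · exact Or.inl (mul_mem a1 a2)
      · exact Or.inr (mul_assoc x y _ ▸ mul_mem a1 a2)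
      · exact Or.inr (by rw [mul_assoc, c, ← mul_assoc]; exact mul_mem a1 a2)
      · refine Or.inl ?_
        have := mul_mem a1 a2
        rwa [c, mul_assoc, ← mul_assoc _ _ y, h1, one_mul] at this
    | inv x _ hx => rwa [inv_eq_of_mul_eq_one_right (f.lin.V_sq hx.1)]
  exact (k v hv).2

theorem f7 {s : L} (h1 : s * s = 1) (h2 : s ≠ 1) (h3 : s ≠ B 0) : ∃ a, a * s * a⁻¹ ≠ s ∧
    a * s * a⁻¹ * s * (a * s * a⁻¹ * s) = 1 ∧ a * s * a⁻¹ * s ∈ Wf (MulAut.conj s) := by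
  obtain ⟨B', h', -, r, ws, us, ms, a, m, R, rfl⟩ := h.gd_rep h1 h2 h3
  have f := h'.f
  obtain ⟨c, h4, h5⟩ := f.gd_word a
  refine ⟨c, ?_, ?_, ?_⟩ <;> rw [h5]
  · exact fun e => R.2.2.1.2 (f.lin.eq (synM_lt (fun i hi => f.lin.colt _ (h4 i (by omega)).1) r) R.1 e)
  · exact f.lin.V_sq (mul_mem (f.gd_memV _) (f.gd_memV _))
  · rw [← f.lin.xor, ← R.2.2.1.1]
    exact f.gd_span_mem R

end Um

end CfsgLib.F22W
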