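import Cfsg.Agent.Lib.F22W.Gd
import Cfsg.Agent.Lib.F22W.Out
import Cfsg.Agent.Lib.F22S.Amb

/-! A standard subgroup `2.U₆(2)`: the conjugates of the central involution. -/

set_option autoImplicit false
set_option maxRecDepth 100000

namespace CfsgLib.F22W

open Cfsg Cfsg.Spor CfsgLib.Comput CfsgLib.ThreeTrans CfsgLib.Fischer CfsgLib.FiTool CfsgLib.M22T Subgroup
open CfsgLib.F22S (Inn Cl Ce)

open CfsgLib.StdInt

variable {G : Type*} [Group G] [Finite G] {L : Subgroup G} {B : ℕ → L}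

omit [Finite G] in
theorem Um0.h1_ct {L : Type*} [Group L] {B : ℕ → L} (f : Um0 B) (c : L) : Commute c (B 0) :=
  mem_center_iff.1 ((f.cen0 _).2 (Or.inr rfl)) c

omit [Finite G] in
theorem Um0.h1_linG (f : Um0 B) : Lin 22 10 (fun i => (B i : G)) co :=
  ⟨f.lin.kN, fun i hi => congrArg Subtype.val (f.lin.sq i hi), fun i hi j hj => (f.lin.comm i hi j hj).map L.subtype,
    f.lin.colt, fun i hi => by rw [F22S.coe_bprod, ← f.lin.rel i hi],
    fun c hc e => f.lin.inj c hc (Subtype.ext ((F22S.coe_bprod B 10 c).symm.trans e))⟩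

omit [Finite G] in
theorem Um0.h1_mem (f : Um0 B) {x : L} : (x : G) ∈ AA (fun i => (B i : G)) ↔ x ∈ AA B := by
  rw [f.h1_linG.mem_V, f.lin.mem_V]
  simp only [F22S.coe_bprod, Subtype.coe_inj]

omit [Finite G] in
theorem Um0.h1_act (f : Um0 B) : Act ⊤ 22 (fun i => (B i : G)) ps := fun m => by
  obtain ⟨c, -, hc⟩ := f.act m
  exact ⟨c, mem_top _, fun i hi => ⟨(hc i hi).1, congrArg Subtype.val (hc i hi).2⟩⟩

theorem Um0.h1_norm (f : Um0 B) {g : G} (h1 : g * B 0 * g⁻¹ ∈ AA (fun i => (B i : G)))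
    (h2 : ∀ x ∈ AA (fun i => (B i : G)), g⁻¹ * x * g ∈ L) :
    ∃ n ∈ normalizer (AA (fun i => (B i : G)) : Set G), n * B 0 * n⁻¹ = g * B 0 * g⁻¹ := by
  let ρ : L →* G := (MulAut.conj g).toMonoidHom.comp L.subtype
  have ρi : Function.Injective ρ := (MulAut.conj g).injective.comp L.subtype_injective
  let U := (AA fun i => (B i : G)).comap ρ
  have u1 : ∀ y ∈ U, y * y = 1 := fun y hy => ρi (by rw [map_mul, map_one]; exact f.h1_linG.V_sq hy)
  have u2 : ∀ x (hx : x ∈ AA fun i => (B i : G)), ρ ⟨_, h2 x hx⟩ = x := fun x hx => by simp [ρ, mul_assoc]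
  obtain ⟨c, hc⟩ := f.jf U (fun y => ⟨1, Subtype.ext (by simpa [pow_two] using u1 y y.2)⟩) h1
  have h3 := hc U le_rfl u1 h1 (by
    rw [← f.h1_linG.card_V, ← card_map_of_injective ρi, map_comap_eq_self fun x hx => ⟨_, u2 x hx⟩])
  refine ⟨_, inv_mem (mem_normalizer_fintype (x := c * g⁻¹) fun y hy => ?_), ?_⟩
  · simpa [mul_assoc] using f.h1_mem.2 (h3 ⟨_, h2 y hy⟩ (show ρ _ ∈ _ by rwa [u2 y hy]))
  · calc (c * g⁻¹ : G)⁻¹ * B 0 * (c * g⁻¹ : G)⁻¹⁻¹ = g * ((c⁻¹ * B 0 * c⁻¹⁻¹ : L) : G) * g⁻¹ := by simp [mul_assoc]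
      _ = _ := by rw [(f.h1_ct c⁻¹).eq, mul_inv_cancel_right]

theorem Um0.h1_four {L : Type*} [Group L] {B : ℕ → L} (f : Um0 B) {p q : L} (hp : p * p = 1) (hq : q * q = 1)
    (c : Commute p q) (p1 : p ≠ 1) (q1 : q ≠ 1) (pq : p * q ≠ 1)
    (m : ∀ x ∈ [p, q, p * q], B 0 * x ∈ insert (B 0) (conjugatesOf (B 1))) : False := by
  have t2 := f.lin.sq 0 (by norm_num)
  have cm : ∀ x ∈ [1, p, q, p * q], ∀ y ∈ [1, p, q, p * q], Commute x y := by
    simp [c, c.symm, (Commute.refl p).mul_right c, c.symm.mul_right (Commute.refl q),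
      (Commute.refl p).mul_left c.symm, c.mul_left (Commute.refl q)]
  refine f.four ([1, p, q, p * q].map (B 0 * ·)) ⟨?_, ?_, ?_⟩ rfl ?_
  · refine List.Nodup.map (mul_right_injective _) ?_
    have n1 : p ≠ q := fun e => pq (by rw [← e, hp])
    simp [p1, q1, p1.symm, q1.symm, pq.symm, n1]
  · simp only [List.forall_mem_map]
    rw [List.forall_mem_cons]
    exact ⟨by rw [mul_one]; exact Set.mem_insert _ _, m⟩
  · simp only [List.forall_mem_map]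
    exact fun x hx y hy => ((Commute.refl _).mul_right (f.h1_ct y).symm).mul_left
      ((f.h1_ct x).mul_right (cm x hx y hy))
  · simp only [List.map_cons, List.map_nil, List.prod_cons, List.prod_nil, mul_one]
    calc _ = B 0 * B 0 * (p * B 0 * q * B 0) * (p * q) := by group
      _ = p * (B 0 * B 0) * (q * p) * q := by
        rw [t2, one_mul, mul_assoc (p * B 0), (f.h1_ct q).eq, ← t2]; group
      _ = 1 := by rw [t2, ← c.eq, mul_one, ← mul_assoc, hp, one_mul, hq]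

omit [Finite G] in
theorem h1_pull {g x t : G} (h : Commute x (g * t * g⁻¹)) : Commute (g⁻¹ * x * g) t := by
  simpa [mul_assoc] using h.conj g⁻¹

/-- the facts on the centraliser of `B 0` -/
structure H1x (L : Subgroup G) (B : ℕ → L) : Prop where
  um : Um B
  nrm : ∀ c, Commute c (B 0 : G) → c ∈ normalizer (L : Set G)
  inn : ∀ c (hc : c ∈ normalizer (L : Set G)), Inn (aut hc) → c ∈ L

namespace H1x

variable (a : H1x L B)
include a

omit [Finite G] in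
theorem idx {c c' : G} (h1 : Commute c (B 0)) (h2 : Commute c' (B 0)) (h3 : c ∉ L) (h4 : c' ∉ L) : c * c' ∈ L :=
  a.inn _ (mul_mem (a.nrm _ h1) (a.nrm _ h2)) (aut_mul (a.nrm _ h1) (a.nrm _ h2) ▸
    a.um.f.idx _ _ (fun e => h3 (a.inn _ _ e)) fun e => h4 (a.inn _ _ e))

omit [Finite G] a in
theorem sq_one {c : G} (hc : c ∈ normalizer (L : Set G)) (h : c * c = 1) : aut hc * aut hc = 1 := by
  rw [aut_mul, aut_eq_one, h]; exact one_mem _

omit [Finite G] in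
theorem le {U : Subgroup G} (h1 : ∀ x ∈ U, x * x = 1) (h2 : (B 0 : G) ∈ U) (h3 : 2 ^ 10 ≤ Nat.card U) : U ≤ L := by
  intro u hu
  by_contra hn
  have iv : ∀ x ∈ U, x⁻¹ = x := fun x hx => inv_eq_of_mul_eq_one_right (h1 x hx)
  have cU : ∀ x ∈ U, ∀ y ∈ U, Commute x y := fun x hx y hy => by
    rw [Commute, SemiconjBy, ← iv _ (mul_mem hx hy), mul_inv_rev, iv x hx, iv y hy]
  have hc := a.nrm u (cU _ hu _ h2)
  have e1 := a.um.f.rk (aut hc) (sq_one hc (h1 u hu)) (fun e => hn (a.inn _ _ e)) (U.subgroupOf L)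
    (fun x hx => ⟨Subtype.ext (h1 x hx), (aut_fix hc).2 (cU _ hu _ hx)⟩) h2
  have e2 : (L.subgroupOf U).index = 2 := index_eq_two_iff.2 ⟨⟨u, hu⟩, fun b => by
    by_cases hb : (b : G) ∈ L
    · exact Or.inr ⟨hb, fun k => hn ((mul_mem_cancel_left hb).1 k)⟩
    · exact Or.inl ⟨a.idx (cU _ b.2 _ h2) (cU _ hu _ h2) hb hn, hb⟩⟩
  have e3 := (L.subgroupOf U).card_mul_index
  have e4 : Nat.card (L.subgroupOf U) = Nat.card (U.subgroupOf L) := by
    rw [← card_map_of_injective U.subtype_injective, ← card_map_of_injective L.subtype_injective,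
      subgroupOf_map_subtype, subgroupOf_map_subtype, inf_comm]
  rw [e2, e4] at e3
  omega

theorem norm {x : G} (hx : x ∈ AA fun i => (B i : G)) (h : IsConj (B 0 : G) x) :
    ∃ n ∈ normalizer (AA (fun i => (B i : G)) : Set G), n * B 0 * n⁻¹ = x := by
  obtain ⟨g, rfl⟩ := isConj_iff.1 h
  have f := a.um.f
  refine f.h1_norm hx fun y hy => a.le (U := (AA fun i => (B i : G)).comap (MulAut.conj g).toMonoidHom)
    (fun y hy => sq_of_conj (f.h1_linG.V_sq hy)) hx ?_ (by simpa [mul_assoc] using hy)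
  rw [← f.h1_linG.card_V]
  exact (Nat.card_congr ((MulAut.conj g).toEquiv.subtypeEquiv fun _ => Iff.rfl)).ge

omit [Finite G] in
theorem t1 : (B 0 : G) ≠ 1 := fun e => absurd (a.um.f.h1_linG.inj 1 (by norm_num)
  ((bprod_two_pow (j := 0) (by norm_num)).trans e)) (by norm_num)

omit [Finite G] in
theorem not_conj : ¬IsConj (B 0 : G) (B 0 * B 1) := fun h => by
  obtain ⟨g, e⟩ := isConj_iff.1 h
  have f := a.um.f
  have k : ∀ i : L, i * i = B 0 * B 1 → Commute (g⁻¹ * i * g) (B 0) ∧ g⁻¹ * i * g ∉ L := fun i hi => by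
    have e1 : (i : G) * i = g * B 0 * g⁻¹ := (congrArg Subtype.val hi).trans e.symm
    refine ⟨h1_pull (e1 ▸ (Commute.refl _).mul_right (Commute.refl _)), fun hL => a.t1 ?_⟩
    have e2 : g⁻¹ * i * g * (g⁻¹ * i * g) = B 0 := by
      calc _ = g⁻¹ * ((i : G) * i) * g := by group
        _ = _ := by rw [e1]; group
    obtain ⟨c, hc⟩ := f.iv ⟨_, hL⟩ (Or.inr (Subtype.ext e2))
    exact e2.symm.trans (congrArg Subtype.val (sq_of_conj (f.lin.V_sq hc)))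
  obtain ⟨i, j, h1, h2, h3⟩ := f.q8
  refine (k _ h3).2 ?_
  convert a.idx (k i h1).1 (k j h2).1 (k i h1).2 (k j h2).2 using 1
  rw [coe_mul]; group

theorem omega (hn : ∃ g : G, g * B 0 * g⁻¹ ∈ L ∧ g * B 0 * g⁻¹ ≠ B 0) :
    ∀ x ∈ AA fun i => (B i : G), IsConj (B 0 : G) x ↔ ∃ i < 22, (B i : G) = x := by
  have f := a.um.f
  have l := f.h1_linG
  have p1 : bprod (fun i => (B i : G)) 10 1 = B 0 := bprod_two_pow (j := 0) (by norm_num)
  have p2 : bprod (fun i => (B i : G)) 10 2 = B 1 := bprod_two_pow (j := 1) (by norm_num)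
  have p3 : bprod (fun i => (B i : G)) 10 3 = B 0 * B 1 := by rw [← p1, ← p2, ← l.xor]; rfl
  have t1 := a.t1
  have nc := a.not_conj
  have nm : ∀ {x : G}, (x ∈ AA fun i => (B i : G)) → IsConj (B 0 : G) x →
      ∃ n ∈ normalizer (AA (fun i => (B i : G)) : Set G), n * B 0 * n⁻¹ = x := a.norm
  have hv : ∃ x ∈ AA fun i => (B i : G), IsConj (B 0 : G) x ∧ x ≠ B 0 := by
    obtain ⟨g, h1, h2⟩ := hn
    obtain ⟨c, hc⟩ := f.iv ⟨_, h1⟩ (Or.inl (Subtype.ext (show _ * _ = (1 : G) by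
      rw [conj_mul, l.sq 0 (by norm_num)]; simp)))
    refine ⟨_, f.h1_mem.2 hc, isConj_iff.2 ⟨c * g, by simp [mul_assoc]⟩, fun e => h2 ?_⟩
    exact (MulAut.conj (c : G)).injective (e.trans (mul_inv_eq_iff_eq_mul.2
      (congrArg Subtype.val (f.h1_ct c).eq)).symm)
  have ac := f.h1_act
  have r1 := l.rel 1 (by norm_num)
  change ∀ x ∈ AA fun i => (B i : G), IsConj (B 0 : G) x ↔ ∃ i < 22, (fun i => (B i : G)) i = x
  beta_reduce at r1
  generalize (B 0 : G) = d at *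
  generalize (B 1 : G) = u at *
  generalize (fun i => (B i : G)) = b at *
  obtain ⟨M, hM⟩ := exists_msk 10 b (conjugatesOf d)
  have h0 := l.orb ac tau0' (fun c _ x hx => hx.trans (isConj_iff.2 ⟨c, rfl⟩)) hM fun T hT => bnot_eq_true.2 (by
    rw [tb_eq, ← Bool.not_eq_true]
    exact fun h => t1 (isConj_one_left.1 (bprod_zero b 10 ▸ ((hM 0).1 (hT 0 h)).2)))
  have ht : ∀ x < 2 ^ 10, M22T.tau (2 ^ 10) M x = {y | y ∈ AA b ∧
      y ∈ {y | IsConj d y ∧ IsConj d (bprod b 10 x * y)}}.ncard := fun x hx => (l.ncard_eq _ fun v hv => by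
    rw [band_eq_true, tb_eq, tb_eq, hM, hM, show x.xor v = x ^^^ v from rfl, l.xor]
    exact ⟨fun h => ⟨h.1.2, h.2.2⟩, fun h => ⟨⟨hv, h.1⟩, Nat.xor_lt_two_pow hx hv, h.2⟩⟩).symm
  have key : ∀ {f : ℕ → G} {ls : List ℕ}, M = maskL ls → (∀ x, (∃ v ∈ ls, bprod b 10 v = x) ↔ ∃ i < 22, f i = x) →
      ∀ x ∈ AA b, IsConj d x ↔ ∃ i < 22, f i = x := fun {f ls} e h x hx => by
    obtain ⟨v, hv, rfl⟩ := l.mem_V.1 hx
    rw [← h]
    refine ⟨fun h => ⟨v, (testBit_maskL _ _).1 (e ▸ (hM v).2 ⟨hv, h⟩), rfl⟩, fun ⟨w, h, e'⟩ => ?_⟩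
    exact e' ▸ ((hM w).1 (e ▸ (testBit_maskL _ _).2 h)).2
  simp only [pTau, bor_eq_true, force_eq, bnot_eq_true, band_eq_true, tb_eq] at h0
  rcases h0 with h0 | h0 | h0 | h0 | h0 | h0
  · rw [(hM 1).2 ⟨by norm_num, p1.symm ▸ IsConj.refl d⟩] at h0
    exact absurd h0 (by simp)
  · obtain ⟨x, -, h0⟩ := FiTool.anyL_sound h0
    rw [band_eq_true, hM] at h0
    obtain ⟨n, h1, h2⟩ := nm (l.mem_V.2 ⟨x, h0.1.1, rfl⟩) h0.1.2
    refine absurd ?_ (ne_of_bnot_beq h0.2)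
    rw [ht x h0.1.1, ht 1 (by omega), p1, ← h2, ← Set.ncard_image_of_injective _ (MulAut.conj n⁻¹).injective]
    congr 1
    ext y
    have e : ∀ y, IsConj d (n * y * n⁻¹) ↔ IsConj d y := fun y =>
      ⟨fun h => h.trans (isConj_iff.2 ⟨n, rfl⟩).symm, fun h => h.trans (isConj_iff.2 ⟨n, rfl⟩)⟩
    refine (Set.mem_image_equiv (f := (MulAut.conj n⁻¹).toEquiv)).trans ?_
    change n⁻¹⁻¹ * y * n⁻¹ ∈ _ ∧ IsConj d (n⁻¹⁻¹ * y * n⁻¹) ∧ IsConj d (_ * (n⁻¹⁻¹ * y * n⁻¹)) ↔ _ ∧ _ ∧ _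
    rw [inv_inv, ← (mem_normalizer_iff.1 h1 y), e, show n * d * n⁻¹ * (n * y * n⁻¹) = n * (d * y) * n⁻¹ by group, e]
  · obtain ⟨x, h1, h2, h3⟩ := hv
    obtain ⟨i, -, e⟩ := (key (f := fun _ => d) (ls := [1]) (Nat.eq_of_beq_eq_true h0) (by
      simpa [p1] using (⟨0, by norm_num⟩ : ∃ x, x < 22)) _ h1).1 h2
    exact absurd e.symm h3
  · refine key (Nat.eq_of_beq_eq_true h0) fun x => ?_
    simp only [List.mem_map, List.mem_range, exists_exists_and_eq_and]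
    exact exists_congr fun i => and_congr_right fun hi => by rw [← l.rel i hi]
  · refine absurd ?_ nc
    have := ((hM (Nat.xor 1 (co 1))).1 (Nat.eq_of_beq_eq_true h0 ▸ (testBit_maskL _ _).2
      (List.mem_cons_of_mem _ (List.mem_map.2 ⟨1, by simp, rfl⟩)))).2
    rwa [show Nat.xor 1 (co 1) = 1 ^^^ co 1 from rfl, l.xor, p1, ← r1] at this
  · exact absurd (p3 ▸ ((hM 3).1 h0.2).2) nc

theorem inL (hn : ∃ g : G, g * B 0 * g⁻¹ ∈ L ∧ g * B 0 * g⁻¹ ≠ B 0) (x : L) :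
    IsConj (B 0 : G) x ↔ x ∈ insert (B 0) (conjugatesOf (B 1)) := by
  have f := a.um.f
  refine ⟨fun h => ?_, ?_⟩
  · obtain ⟨c, hc⟩ := f.iv x (Or.inl (Subtype.ext (by
      obtain ⟨g, e⟩ := isConj_iff.1 h
      rw [coe_mul, ← e, conj_mul, f.h1_linG.sq 0 (by norm_num)]; simp)))
    obtain ⟨i, hi, e⟩ := (a.omega hn _ (f.h1_mem.2 hc)).1 (h.trans (isConj_iff.2 ⟨c, rfl⟩))
    have e1 : B i = c * x * c⁻¹ := Subtype.ext e
    by_cases h0 : i = 0
    · rw [h0] at e1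
      exact Or.inl ((MulAut.conj c).injective (e1.symm.trans (mul_inv_eq_iff_eq_mul.2 (f.h1_ct c).eq).symm))
    · exact Or.inr ((f.cls i hi h0).trans (isConj_iff.2 ⟨c, e1.symm⟩).symm)
  · rintro (rfl | h)
    · exact IsConj.refl _
    · exact ((a.omega hn _ (subset_closure ⟨1, by norm_num, rfl⟩)).2 ⟨1, by norm_num, rfl⟩).trans
        (L.subtype.map_isConj h)

theorem mem (hn : ∃ g : G, g * B 0 * g⁻¹ ∈ L ∧ g * B 0 * g⁻¹ ≠ B 0) {s : G} (h1 : Commute s (B 0))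
    (h2 : IsConj (B 0 : G) s) : s ∈ L := by
  by_contra hs
  have f := a.um.f
  obtain ⟨g, e⟩ := isConj_iff.1 h2
  have ss : s * s = 1 := by rw [← e, conj_mul, f.h1_linG.sq 0 (by norm_num)]; simp
  have hi : s⁻¹ = s := inv_eq_of_mul_eq_one_right ss
  have ht : (B 0 : G) = g⁻¹ * s * g := by rw [← e]; group
  have hc := a.nrm s h1
  obtain ⟨U, u1, u2, x, hx, y, hy, z, hz, hm⟩ := a.um.out (sq_one hc ss) fun k => hs (a.inn _ _ k)
  have iv : ∀ x ∈ U, x⁻¹ = x := fun x hx => inv_eq_of_mul_eq_one_right (u1 x hx)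
  have cU : ∀ x ∈ U, ∀ y ∈ U, x * y = y * x := fun x hx y hy => by
    rw [← iv _ (mul_mem hx hy), mul_inv_rev, iv x hx, iv y hy]
  let θ : L → G := fun x => g⁻¹ * (aut hc x * x : L) * g
  have θU : ∀ x ∈ U, aut hc x * x ∈ U := fun x hx => mul_mem (u2 x hx) hx
  have θm : ∀ x ∈ U, ∀ y ∈ U, θ (x * y) = θ x * θ y := fun x hx y hy => by
    have : aut hc (x * y) * (x * y) = aut hc x * x * (aut hc y * y) := by
      rw [map_mul, mul_assoc, mul_assoc, ← mul_assoc (aut hc y), cU _ (u2 y hy) x hx, mul_assoc]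
    simp only [θ, this]
    rw [coe_mul]; group
  have θc : ∀ x ∈ U, Commute (θ x) (B 0) := fun x hx => h1_pull (e ▸ ((aut_fix hc (x := aut hc x * x)).1 (by
    rw [map_mul, ← MulAut.mul_apply, sq_one hc ss, MulAut.one_apply, cU _ hx _ (u2 x hx)])).symm)
  have θ1 : ∀ x ∈ U, aut hc x ≠ x → θ x ≠ 1 := fun x hx hn k => hn (by
    have : aut hc x * x = 1 := Subtype.ext (conj_eq_one_iff.1 (show g⁻¹ * _ * g⁻¹⁻¹ = 1 by rwa [inv_inv]))
    rw [eq_inv_of_mul_eq_one_left this, iv x hx])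
  have θ2 : ∀ x ∈ U, θ x * θ x = 1 := fun x hx => by
    rw [← θm x hx x hx, u1 x hx]; simp [θ]
  have θt : ∀ x ∈ U, IsConj (B 0 : G) (B 0 * θ x) := fun x hx => isConj_iff.2 ⟨g⁻¹ * x * g, by
    have e1 : (x : G)⁻¹ = x := congrArg Subtype.val (iv x hx)
    simp only [θ]
    rw [coe_mul, aut_apply, ht]
    calc _ = g⁻¹ * (x * s * (x : G)⁻¹) * g := by group
      _ = g⁻¹ * (s * s * x * s⁻¹ * x) * g := by rw [ss, hi, e1, one_mul]
      _ = _ := by group⟩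
  have fin : ∀ x ∈ U, ∀ y ∈ U, θ x ∈ L → θ y ∈ L → aut hc x ≠ x → aut hc y ≠ y → aut hc (x * y) ≠ x * y → False :=
    fun x hx y hy lx ly n1 n2 n3 => f.h1_four (p := ⟨_, lx⟩) (q := ⟨_, ly⟩) (Subtype.ext (θ2 x hx))
      (Subtype.ext (θ2 y hy)) (Subtype.ext (by
        change θ x * θ y = θ y * θ x
        rw [← θm x hx y hy, ← θm y hy x hx, cU x hx y hy]))
      (fun k => θ1 x hx n1 (congrArg Subtype.val k)) (fun k => θ1 y hy n2 (congrArg Subtype.val k))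
      (fun k => θ1 _ (mul_mem hx hy) n3 ((θm x hx y hy).trans (congrArg Subtype.val k))) (by
        simp only [List.forall_mem_cons, ← a.inL hn]
        exact ⟨θt x hx, θt y hy, show IsConj _ (B 0 * (θ x * θ y)) from θm x hx y hy ▸ θt _ (mul_mem hx hy), by simp⟩)
  have id : ∀ x ∈ U, ∀ y ∈ U, θ x ∉ L → θ y ∉ L → θ (x * y) ∈ L := fun x hx y hy n1 n2 =>
    θm x hx y hy ▸ a.idx (θc x hx) (θc y hy) n1 n2
  simp only [List.forall_mem_cons] at hm
  obtain ⟨n1, n2, n3, n4, n5, n6, n7, -⟩ := hm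
  by_cases k1 : θ x ∈ L <;> by_cases k2 : θ y ∈ L <;> by_cases k3 : θ z ∈ L
  · exact fin x hx y hy k1 k2 n1 n2 n4
  · exact fin x hx y hy k1 k2 n1 n2 n4
  · exact fin x hx z hz k1 k3 n1 n3 n5
  · exact fin x hx _ (mul_mem hy hz) k1 (id y hy z hz k2 k3) n1 n6 (by rwa [← mul_assoc])
  · exact fin y hy z hz k2 k3 n2 n3 n6
  · exact fin y hy _ (mul_mem hx hz) k2 (id x hx z hz k1 k3) n2 n5 (by rwa [← mul_assoc, cU y hy x hx])
  · exact fin _ (mul_mem hx hy) z hz (id x hx y hy k1 k2) k3 n4 n3 n7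
  · exact fin _ (mul_mem hx hy) _ (mul_mem hx hz) (id x hx y hy k1 k2) (id x hx z hz k1 k3) n4 n5 (by
      rwa [cU x hx y hy, mul_assoc, ← mul_assoc x, u1 x hx, one_mul])

end H1x

/-- the conjugates of the central involution which commute with it -/
theorem hd_of (hL : IsStandardSubgroup L) (h : Um B) (hK : ∀ k ∈ centralizer (L : Set G), k = 1 ∨ k = B 0)
    (hn : ∃ g : G, g * B 0 * g⁻¹ ∈ L ∧ g * B 0 * g⁻¹ ≠ B 0) :
    Hd L (B 0) (Subtype.val '' conjugatesOf (B 1)) := by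
  have f := h.f
  have a : H1x L B := ⟨h, fun c hc => (norm_iff hL h.good0).2 hc, fun c hc ⟨l, e⟩ => by
    rcases hK _ ((aut_eq_conj hc l).1 e) with e1 | e1
    · rw [mul_inv_eq_one.1 e1]; exact l.2
    · rw [mul_inv_eq_iff_eq_mul.1 e1]; exact mul_mem (B 0).2 l.2⟩
  have cL : ∀ l ∈ L, Commute l (B 0 : G) := fun l hl => (f.h1_ct ⟨l, hl⟩).map L.subtype
  refine ⟨f.h1_linG.sq 0 (by norm_num), a.t1, (B 0).2, cL, fun x hx => ⟨fun k => ?_, ?_⟩, ?_, ?_, ⟨?_, ?_⟩, ?_,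
    fun x hx => hK x fun l hl => (hx l hl).symm, fun c c' => a.idx⟩
  · exact ((a.inL hn ⟨x, a.mem hn hx k⟩).1 k).imp (congrArg Subtype.val) fun e => ⟨_, e, rfl⟩
  · rintro (rfl | ⟨y, hy, rfl⟩)
    exacts [IsConj.refl _, (a.inL hn y).2 (Or.inr hy)]
  · rintro ⟨y, hy, e⟩
    obtain rfl : y = B 0 := Subtype.ext e
    obtain ⟨c, hc⟩ := isConj_iff.1 (IsConj.symm hy)
    rw [(f.h1_ct c).eq, mul_inv_cancel_right] at hc
    have p1 : bprod B 10 1 = B 0 := bprod_two_pow (j := 0) (by norm_num)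
    have p2 : bprod B 10 2 = B 1 := bprod_two_pow (j := 1) (by norm_num)
    refine absurd (f.lin.inj (1 ^^^ 2) (by decide) ?_) (by decide)
    rw [f.lin.xor, p1, p2, ← hc, f.lin.sq 0 (by norm_num)]
  · rw [← coe_subtype, ← MonoidHom.map_closure, f.gen, ← MonoidHom.range_eq_map, range_subtype]
  · rintro _ ⟨y, hy, rfl⟩
    rw [orderOf_coe, f.tt.1 y hy]
  · rintro _ ⟨y, hy, rfl⟩ _ ⟨z, hz, rfl⟩
    exact (f.tt.2 y hy z hz).imp (congrArg Subtype.val) (congrArg Subtype.val)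
  · obtain ⟨β, hβ⟩ := f.iso
    exact ⟨Subtype.val ∘ β, Subtype.val_injective.injOn.bijOn_image.comp hβ.bij,
      fun x hx y hy => congrArg Subtype.val (hβ.conj x hx y hy)⟩

end CfsgLib.F22W
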