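import Cfsg.Agent.Lib.F22W.UDefs
import Cfsg.Agent.Lib.UFP.Tr

/-! A standard subgroup `2.U₆(2)`: transfer. -/

set_option autoImplicit false
set_option maxRecDepth 100000

namespace CfsgLib.F22W

open Cfsg Cfsg.Spor CfsgLib.Comput CfsgLib.ThreeTrans CfsgLib.Fischer CfsgLib.FiTool CfsgLib.M22T Subgroup
open CfsgLib.F22S (Inn Cl Ce)

variable {G : Type*} [Group G] [Finite G] {L : Subgroup G} {t : G} {E : Set G}

omit [Finite G] in
theorem near_conj {D : Set G} (hc : ∀ g : G, ∀ d ∈ D, g * d * g⁻¹ ∈ D) (g : G) {x y : G} (h : Near D x y) :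
    Near D (g * x * g⁻¹) (g * y * g⁻¹) := by
  obtain ⟨c, h1, h2, h3⟩ := h
  exact ⟨g * c * g⁻¹, hc g c h1, (commute_conj_iff g _ _).2 h2, (commute_conj_iff g _ _).2 h3⟩

/-- the stabiliser of the component -/
def stabC {D : Set G} {v k l m : ℕ} (Lc : LocS D v k l m) (hd : t ∈ D) : Subgroup G where
  carrier := {n | Near D t (n * t * n⁻¹)}
  one_mem' := by simpa using (LocS.self_mem hd).2
  mul_mem' := fun {a b} ha hb => by
    have := Lc.trans hd (Lc.conj a t hd) (Lc.conj a _ (Lc.conj b t hd)) ha (near_conj Lc.conj a hb)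
    simpa [mul_assoc] using this
  inv_mem' := fun {a} ha => by
    have := (near_conj Lc.conj a⁻¹ ha).symm
    simpa [mul_assoc] using this

theorem cent_le_comp {D : Set G} {v k l m : ℕ} (Lc : LocS D v k l m) (hd : t ∈ D)
    (perf : ∀ φ : closure (comp D t) →* ℤˣ, ∀ x, φ x = 1)
    (fix : ∀ s ∈ closure (comp D t), s * s = 1 → ∃ p ∈ comp D t, Commute s p)
    (idx : ∀ a b, Commute a t → Commute b t → a ∉ closure (comp D t) → b ∉ closure (comp D t) →
      a * b ∈ closure (comp D t))
    (hp : (⊤ : Subgroup G) ≤ ⁅(⊤ : Subgroup G), (⊤ : Subgroup G)⁆) : centralizer {t} ≤ closure (comp D t) := by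
  classical
  have T := Lc.tt hd
  have t0 : t ∈ comp D t := LocS.self_mem hd
  have mN : ∀ n, n ∈ stabC Lc hd ↔ Near D t (n * t * n⁻¹) := fun n => Iff.rfl
  have nΩ : ∀ n ∈ stabC Lc hd, ∀ p ∈ comp D t, n * p * n⁻¹ ∈ comp D t := fun n hn p hp =>
    ⟨Lc.conj n p hp.1, Lc.trans hd (Lc.conj n t hd) (Lc.conj n p hp.1) hn (near_conj Lc.conj n hp.2)⟩
  have G0N : closure (comp D t) ≤ stabC Lc hd := fun x hx => (T.conj_mem hx t0).2
  have nG : ∀ n ∈ stabC Lc hd, ∀ x ∈ closure (comp D t), n * x * n⁻¹ ∈ closure (comp D t) := fun n hn x hx => by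
    refine closure_induction (p := fun x _ => n * x * n⁻¹ ∈ closure (comp D t)) (fun p hp => subset_closure (nΩ n hn p hp))
      (by simp) (fun a b _ _ ha hb => ?_) (fun a _ ha => ?_) hx
    · simpa [mul_assoc] using mul_mem ha hb
    · simpa [mul_assoc] using inv_mem ha
  have cN : ∀ c, Commute c t → c ∈ stabC Lc hd := fun c hc => by
    rw [mN, hc.eq, mul_inv_cancel_right]; exact t0.2
  have dec : ∀ n ∈ stabC Lc hd, ∃ a ∈ closure (comp D t), Commute (a⁻¹ * n) t := fun n hn => by
    obtain ⟨a, ha, e⟩ := Lc.exists_conj hd t0 (nΩ n hn t t0)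
    refine ⟨a, ha, ?_⟩
    have : a⁻¹ * n * t = a⁻¹ * (n * t * n⁻¹) * n := by group
    rw [Commute, SemiconjBy, this, ← e]; group
  have two : ∀ a ∈ stabC Lc hd, ∀ b ∈ stabC Lc hd, a ∉ closure (comp D t) → b ∉ closure (comp D t) →
      a * b ∈ closure (comp D t) := fun a ha b hb na nb => by
    obtain ⟨x, hx, cx⟩ := dec a ha
    obtain ⟨y, hy, cy⟩ := dec b hb
    have := mul_mem (mul_mem hx (nG _ (cN _ cx) y hy)) (idx _ _ cx cy
      (fun h => na (by simpa using mul_mem hx h)) fun h => nb (by simpa using mul_mem hy h))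
    simpa [mul_assoc] using this
  let f : G → ℤˣ := fun a => if a ∈ closure (comp D t) then 1 else -1
  have f1 : ∀ a, f a = 1 → a ∈ closure (comp D t) := fun a h => by
    by_contra hn
    simp only [f, if_neg hn] at h
    exact absurd h (by decide)
  have hf : ∀ a ∈ stabC Lc hd, ∀ b ∈ stabC Lc hd, f (a * b) = f a * f b := fun a ha b hb => by
    by_cases h1 : a ∈ closure (comp D t) <;> by_cases h2 : b ∈ closure (comp D t)
    · simp only [f, if_pos h1, if_pos h2, if_pos (mul_mem h1 h2), mul_one]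
    · simp only [f, if_pos h1, if_neg h2, if_neg (mt (Subgroup.mul_mem_cancel_left _ h1).1 h2), one_mul]
    · simp only [f, if_neg h1, if_pos h2, if_neg (mt (Subgroup.mul_mem_cancel_right _ h2).1 h1), mul_one]
    · simp only [f, if_neg h1, if_neg h2, if_pos (two a ha b hb h1 h2), neg_mul_neg, mul_one]
  have U : UFP.U (stabC Lc hd) t := by
    refine ⟨Lc.sq hd, G0N (subset_closure t0), fun g hg => ?_⟩
    have sD := Lc.conj g t hd
    by_cases hs : ∃ p ∈ comp D t, Commute p (g * t * g⁻¹)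
    · obtain ⟨p, h1, h2⟩ := hs
      exact (Lc.mem_comp hd h1 sD h2).2
    push Not at hs
    have k1 : ∀ p ∈ comp D t, g⁻¹ * p * g ∈ stabC Lc hd := fun p h1 => by
      set s := g * t * g⁻¹ with hsd
      have s2 := Lc.sq sD
      have p2 := Lc.sq h1.1
      have h2 : s * p * s ∈ comp D t := by
        have := nΩ s hg p h1
        rwa [Lc.inv sD] at this
      have h3 : Commute p (s * p * s) := by
        by_contra h3
        refine hs _ (T.conj p h1 _ h2) (commute_of_conj_eq s2 ?_).symm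
        rw [show s * (p * (s * p * s) * p) * s = s * p * s * p * (s * p * s) by simp only [mul_assoc],
          ← braid T.set h1 h2 h3]
      have h4 : Commute s (p * s * p) := by
        have h5 := h3.eq
        calc s * (p * s * p) = s * p * s * p := by simp only [mul_assoc]
          _ = p * (s * p * s) := h5.symm
          _ = p * s * p * s := by simp only [mul_assoc]
      have h6 : Near D s (p * s * p) := ⟨s, sD, Commute.refl s, h4⟩
      have h7 := near_conj Lc.conj g⁻¹ h6
      rw [mN]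
      convert h7 using 1
      · rw [hsd]; group
      · rw [hsd, mul_inv_rev, mul_inv_rev, Lc.inv h1.1]; group
    have k2 : ∀ x ∈ closure (comp D t), g⁻¹ * x * g ∈ stabC Lc hd := fun x hx => by
      refine closure_induction (p := fun x _ => g⁻¹ * x * g ∈ stabC Lc hd) k1 (by simp)
        (fun a b _ _ ha hb => ?_) (fun a _ ha => ?_) hx
      · simpa [mul_assoc] using mul_mem ha hb
      · simpa [mul_assoc] using inv_mem ha
    let φ : closure (comp D t) →* ℤˣ := MonoidHom.mk' (fun x => f (g⁻¹ * x * g)) fun a b => by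
      rw [← hf _ (k2 _ a.2) _ (k2 _ b.2), coe_mul]
      congr 1; group
    have k3 : g⁻¹ * t * g ∈ closure (comp D t) := f1 _ (perf φ ⟨t, subset_closure t0⟩)
    have k4 : g⁻¹ * t * g⁻¹⁻¹ ∈ D := Lc.conj _ t hd
    rw [inv_inv] at k4
    obtain ⟨p, h1, h2⟩ := fix _ k3 (Lc.sq k4)
    refine (inv_mem_iff).1 ((mN _).2 ?_)
    rw [inv_inv]
    exact (Lc.mem_comp hd h1 k4 h2.symm).2
  obtain ⟨V, hV⟩ := U.exists_hom (K := ⊤) (fun g => ⟨g, mem_top g, by simp⟩) f (fun a _ ha b _ hb => hf a ha b hb)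
    fun a _ ha => by
      rw [hf _ (mul_mem U.mem ha) _ (inv_mem U.mem), hf _ U.mem _ ha]
      have tG : t ∈ closure (comp D t) := subset_closure t0
      simp only [f, if_pos tG, if_pos (inv_mem tG), one_mul, mul_one]
      split_ifs <;> rfl
  intro c hc
  refine f1 c ?_
  rw [← hV ⟨c, mem_top c⟩ (mem_centralizer_singleton_iff.1 hc).symm, UFP.hom_eq_one_of_perfect hp]

/-- PROOF.  D = conjugatesOf t, perp D t = E (good, tE).  Copy the first half of `Mod.recog`: LocS D 693 180 51 45 (`srg22.map`, `ineq22`),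
Ω = comp D t ⊇ E, G0 = closure Ω ≥ L (gen), centre trivial (cK, gen, `exists_not_commute`), `t22` (b22_0): ε : G0 ≃* Fi22 mapping Ω onto
D22.  So C_G0(t) = closure (perp) = L (`m22_fi.cent`), G0 is perfect, every involution of G0 commutes with a member of Ω
(`fix` as in main22).  N = {n | n Ω n⁻¹ = Ω} ≥ G0, C(t); N = G0 C(t) (`exists_conj`), so n, n' ∈ N \ G0 ⇒ n n' ∈ G0 (idx).
U N t: let s = g t g⁻¹ ∈ N.  If s commutes with some p ∈ Ω then s ∈ Ω (`mem_comp`), s = a t a⁻¹ with a ∈ G0, a⁻¹ g ∈ C(t).  Otherwise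
s ∉ G0, and p, s p s commute for all p ∈ Ω (else the third transposition p (s p s) p is fixed by s), so p s p = s (s p s) p commutes
with s, lies in comp D s = g Ω g⁻¹, and comp D (p s p) = comp D s (`trans`), i.e. p ∈ g N g⁻¹.  G0 ≤ g N g⁻¹ is perfect, so
G0 ≤ g G0 g⁻¹, equality by order, s ∈ G0: contradiction.  `UFP.U.exists_hom` with K = ⊤, f = sign of N / G0 (values in ℤˣ or
Multiplicative (ZMod 2)): a homomorphism of the simple group G which is non-trivial on C(t) \ L. -/
theorem Hd.le [IsSimpleGroup G] (hG : ¬IsMulCommutative G) (h : Hd L t E) : centralizer {t} ≤ L := by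
  classical
  obtain ⟨β, h2⟩ := h.iso
  have EL : E ⊆ L := h.gen ▸ subset_closure
  have h1 : perp (conjugatesOf t) t = E := by
    ext x
    refine ⟨fun hx => ((h.good x hx.2.2.symm).1 hx.1).resolve_left hx.2.1, fun hx => ?_⟩
    have h1 := h.cL x (EL hx)
    exact ⟨(h.good _ h1).2 (Or.inr hx), fun e => h.tE (e ▸ hx), h1.symm⟩
  have hc : ∀ g : G, ∀ x ∈ conjugatesOf t, g * x * g⁻¹ ∈ conjugatesOf t := fun g x hx => hx.trans (isConj_iff.2 ⟨g, rfl⟩)
  have ho : ∀ x ∈ conjugatesOf t, orderOf x = 2 := fun x hx => by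
    obtain ⟨g, rfl⟩ := isConj_iff.1 hx
    exact orderOf_eq_prime (by rw [pow_two, conj_mul, h.t2]; simp) fun e => h.t1 (conj_eq_one_iff.1 e)
  have Lc : LocS (conjugatesOf t) 693 180 51 45 := ⟨hc, ho, fun x hx => by
    obtain ⟨g, rfl⟩ := isConj_iff.1 hx
    rw [← cj_perp hc, h1]
    exact (srg22.map h2 h.tt).map (KIso.of_hom (MulAut.conj g).toMonoidHom (MulAut.conj g).injective.injOn)
      (set_map_equiv (MulAut.conj g) h.tt), ineq22, by norm_num, by norm_num, by norm_num⟩
  have hd : t ∈ conjugatesOf t := mem_conjugatesOf_self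
  have t0 := LocS.self_mem hd
  have h4 : ∀ y ∈ E, y ∈ comp (conjugatesOf t) t := fun y hy =>
    have h4 := h1.ge hy
    Lc.mem_comp hd t0 h4.1 h4.2.2
  have h5 : L ≤ closure (comp (conjugatesOf t) t) := h.gen ▸ closure_mono h4
  have q' : ∀ x : closure (comp (conjugatesOf t) t), x ∈ perp ((↑) ⁻¹' comp (conjugatesOf t) t)
      ⟨t, subset_closure t0⟩ ↔ (x : G) ∈ E := fun x => by
    rw [← h1, ← Lc.perp_comp hd t0]
    exact and_congr Iff.rfl (and_congr Subtype.ext_iff.not (by simp [Commute, SemiconjBy, Subtype.ext_iff]))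
  obtain ⟨e, he⟩ := FiType.t22 (G := closure (comp (conjugatesOf t) t)) (x := ⟨t, subset_closure t0⟩)
    (β := fun y => if h : β y ∈ closure (comp (conjugatesOf t) t) then ⟨β y, h⟩ else 1) (Lc.prim hd) (by
      rw [eq_bot_iff]
      intro x hx
      rw [mem_center_closure] at hx
      refine Subtype.ext ((h.cK x fun l hl => ?_).resolve_right fun e => ?_)
      · rw [← h.gen] at hl
        exact closure_induction (p := fun l _ => Commute (x : G) l) (fun y hy => hx y (h4 y hy)) (Commute.one_right _)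
          (fun _ _ _ _ => Commute.mul_right) (fun _ _ => Commute.inv_right) hl
      · obtain ⟨c, h6, h7⟩ := Lc.exists_not_commute hd
        exact h7 (e ▸ hx c h6)) t0 (by
      rw [show perp (conjugatesOf (g22 0)) (g22 0) = perp D22 z22 from congrArg _ b22_0.symm]
      have q : ∀ y ∈ perp D22 z22, ((if h : β y ∈ closure (comp (conjugatesOf t) t) then ⟨β y, h⟩ else 1 :
          closure (comp (conjugatesOf t) t)) : G) = β y := fun y hy => by
        rw [dif_pos (show β y ∈ closure (comp (conjugatesOf t) t) from subset_closure (h4 _ (h2.mem hy)))]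
      refine ⟨⟨fun y hy => (q' _).2 ((q y hy).symm ▸ h2.mem hy), fun y hy y' hy' e => (h2.inj hy hy').1 ?_, fun x hx => ?_⟩,
        fun x hx y hy => Subtype.ext ?_⟩
      · rw [← q y hy, ← q y' hy']; exact congrArg _ e
      · obtain ⟨y, hy, e⟩ := h2.surj ((q' x).1 hx)
        exact ⟨y, hy, Subtype.ext ((q y hy).trans e)⟩
      · rw [coe_mul, coe_mul, q x hx, q y hy, q _ (srg22.tt.conj x hx y hy), h2.conj x hx y hy])
  have M := m22_of_equiv e he
  have pf : commutator (closure (comp (conjugatesOf t) t)) = ⊤ := by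
    have := congrArg (map e.symm.toMonoidHom) perfect22
    rwa [_root_.commutator_def, map_commutator, map_top_of_surjective _ e.symm.surjective, ← _root_.commutator_def] at this
  have key := cent_le_comp Lc hd (fun φ x => Abelianization.commutator_subset_ker φ (pf ▸ mem_top x)) (fun s hs s2 => by
      obtain ⟨p, h6, h7⟩ := exists_commute_of_ncard M.grp.2.1 (Or.inr ⟨⟨pf⟩, by rw [M.fm.tm.ncard_eq]⟩)
        (t := ⟨s, hs⟩) (Subtype.ext s2)
      exact ⟨p, h6, congrArg Subtype.val h7⟩)
    (fun a b ha hb na nb => h5 (h.idx a b ha hb (mt (@h5 a) na) (mt (@h5 b) nb))) (by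
      rcases (inferInstance : (commutator G).Normal).eq_bot_or_eq_top with e | e
      · exact absurd ((commutator_eq_bot_iff G).1 e) hG
      · exact e.ge)
  intro c hc'
  have h6 := (M.cent ⟨t, subset_closure t0⟩ t0).le (mem_centralizer_singleton_iff.2
    (Subtype.ext (mem_centralizer_singleton_iff.1 hc') : (⟨c, key hc'⟩ : closure (comp (conjugatesOf t) t)) * _ = _ * ⟨c, key hc'⟩))
  exact (closure_le (L.comap (closure (comp (conjugatesOf t) t)).subtype)).2 (fun x hx => EL ((q' x).1 hx)) h6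

end CfsgLib.F22W
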