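import Cfsg.Agent.Lib.F22W.Md
import Cfsg.Agent.S2091

/-! Double covers of `U₆(2)` embed in `Fi₂₂`. -/

set_option autoImplicit false
set_option maxRecDepth 100000

namespace CfsgLib.F22W

open Cfsg Cfsg.Spor CfsgLib.Comput CfsgLib.ThreeTrans CfsgLib.Fischer CfsgLib.FiTool CfsgLib.M22T Subgroup
open CfsgLib.F22S (Inn Cl Ce)

theorem io_surj {Q A L₁ L₂ : Type*} [Group Q] [CommGroup A] [Group L₁] [Group L₂]
    [Group.IsPerfect Q] (hA : HasSchurMultiplier Q A) {ξ₁ : L₁ →* Q} {ξ₂ : L₂ →* Q}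
    (h₁ : IsStemExtension ξ₁) (h₂ : IsStemExtension ξ₂)
    (hu : ∀ (f₁ : A →* ξ₁.ker) (f₂ : A →* ξ₂.ker), Function.Surjective f₂ → f₂.ker ≤ f₁.ker) :
    ∃ ψ : L₂ →* L₁, Function.Surjective ψ ∧ ∀ y, ξ₁ (ψ y) = ξ₂ y := by
  obtain ⟨Γ, _, _, σ, hσ, ⟨e⟩⟩ := hA.1
  have := Schur.perfect_of_stem hσ
  have hk : Nat.card A ≤ Nat.card (Schur.stemKer σ) := by
    rw [Schur.stemKer_eq_ker_of_stem hσ, Nat.card_congr e.toEquiv]
  obtain ⟨η₁, hη₁⟩ := Schur.exists_lift_of_perfect_cover hA (Schur.centralExt_of_stem hσ) hk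
    (Schur.centralExt_of_stem h₁)
  obtain ⟨η₂, hη₂⟩ := Schur.exists_lift_of_perfect_cover hA (Schur.centralExt_of_stem hσ) hk
    (Schur.centralExt_of_stem h₂)
  have s₁ := Schur.surjective_of_lift hσ.1 h₁ η₁ hη₁
  have s₂ := Schur.surjective_of_lift hσ.1 h₂ η₂ hη₂
  obtain ⟨f₁, -, k₁⟩ := Schur.exists_ker_data e η₁ hη₁ s₁
  obtain ⟨f₂, hf₂, k₂⟩ := Schur.exists_ker_data e η₂ hη₂ s₂
  have hk : η₂.ker ≤ η₁.ker := by rw [k₁, k₂]; exact map_mono (comap_mono (hu f₁ f₂ hf₂))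
  have key := η₂.liftOfRightInverse_comp_apply _ (Function.rightInverse_surjInv s₂) ⟨η₁, hk⟩
  refine ⟨_, fun z => (s₁ z).elim fun x hx => ⟨η₂ x, (key x).trans hx⟩, fun y => ?_⟩
  obtain ⟨x, rfl⟩ := s₂ y
  rw [key]
  exact (DFunLike.congr_fun hη₁ x).trans (DFunLike.congr_fun hη₂ x).symm

theorem io_fin {F : Type*} [Group F] {D : Set F} {g pt : ℕ → F} (M : M24 D g pt) {d e f : F}
    (h : CL D [d, e, f]) {K : Subgroup F} (hK : K = Cl [d, e, f]) {L : Type*} [Group L] (ψ : K →* L)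
    (hs : Function.Surjective ψ) (hk : ∀ y, ψ y = 1 ↔ y.1 = 1 ∨ y.1 = e * f) :
    ∃ ι : L →* Fi22, Function.Injective ι ∧ ι.range = centralizer {z22} := by
  subst hK
  obtain ⟨π, h1, h2, -⟩ := md M h
  obtain ⟨ι, key⟩ : ∃ ι : L →* Fi22, ∀ y, ι (ψ y) = π y := ⟨_, ψ.liftOfRightInverse_comp_apply _
    (Function.rightInverse_surjInv hs) ⟨π, fun y hy => (h2 y).2 ((hk y).1 hy)⟩⟩
  refine ⟨ι, (injective_iff_map_eq_one _).2 fun z hz => ?_, (le_antisymm ?_ ?_).trans h1⟩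
  · obtain ⟨y, rfl⟩ := hs z
    exact (hk y).2 ((h2 y).1 ((key y).symm.trans hz))
  · rintro _ ⟨z, rfl⟩
    obtain ⟨y, rfl⟩ := hs z
    exact ⟨y, (key y).symm⟩
  · rintro _ ⟨y, rfl⟩
    exact ⟨ψ y, key y⟩

theorem io_main {F : Type*} [Group F] {D : Set F} {g pt : ℕ → F} (M : M24 D g pt) {d e f : F}
    (h : CL D [d, e, f]) {L : Type*} [Group L] [Finite L] (hq : IsQuasisimple L)
    (h2 : Nat.card (center L) = 2) {E : Type*} [Field E] [Fintype E] (hE : Fintype.card E = 4)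
    (ε : L ⧸ center L ≃* PSU 6 E 2) :
    ∃ ι : L →* Fi22, Function.Injective ι ∧ ι.range = centralizer {z22} := by
  have := M.finite
  obtain ⟨s₁, k₁⟩ := CpTp.stem_of_equiv hq.1 ε
  obtain ⟨hq', hc, χ, h3, h4⟩ := Fi24T.core_four M h hE (Cl [d, e, f]).subtype (subtype_injective _) (by
    rw [range_subtype, Cl]; congr 2; ext; simp)
  have := hq.1
  have : Group.IsPerfect (PSU 6 E 2) := Group.IsPerfect.ofSurjective s₁.1
  have sq : ∀ {a b}, CL D [a, b] → a * b * (a * b) = 1 ∧ a * b ≠ 1 := fun k =>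
    ⟨by simpa using k.prod_sq M.grp.1, by simpa using k.prod_ne_one M.prim (by simp) (by simp)⟩
  have h' : CL D [e, d, f] := (h.perm (List.Perm.swap _ _ _)).1
  have h'' : CL D [f, d, e] := (h.perm (List.perm_append_comm (l₁ := [d, e]))).1
  have ma : d * e ∈ Cl [d, e, f] := F22S.mul_mem_Cl' M h (by simp) (by simp) (by simp)
  have mb : d * f ∈ Cl [d, e, f] := F22S.mul_mem_Cl' M h (by simp) (by simp) (by simp)
  have c : Commute (d * e) (d * f) := by
    have := (F22S.mem_Cl.1 ma).2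
    exact (this d (by simp)).mul_right (this f (by simp))
  have ab : d * e * (d * f) = e * f := by
    rw [(h.2.2 d (by simp) e (by simp)).eq, mul_assoc, cancel M.grp.1 (h.2.1 d (by simp))]
  have ne : d * e ≠ d * f := fun k => by simpa [mul_left_cancel k] using h.1
  have mem : ∀ y, χ y = 1 ↔ y.1 = 1 ∨ y.1 = d * e ∨ y.1 = d * f ∨ y.1 = e * f := fun y => by
    rw [← MonoidHom.mem_ker, h4, hc, mem_comap,
      Invol.mem_closure_pair_of_commute (sq h''.tail).1 (sq h'.tail).1 c, ab]; rfl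
  have c4 : Nat.card χ.ker = 4 := by
    rw [h4, hc, comap_subtype, Nat.card_congr (subgroupOfEquivOfLe ((closure_le _).2 (by
      rintro _ (rfl | rfl); exacts [ma, mb]))).toEquiv]
    exact Invol.card_closure_pair_of_commute (Invol.orderOf_eq_two (sq h''.tail).2 (sq h''.tail).1)
      (Invol.orderOf_eq_two (sq h'.tail).2 (sq h'.tail).1) ne c
  have hr : Nat.card (powMonoidHom 2 : Multiplicative (ZMod 3 × ZMod 2 × ZMod 2) →* _).range = 3 := by
    rw [Nat.card_eq_fintype_card, Fintype.card_of_subtype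
      (Finset.univ.image fun a : Multiplicative (ZMod 3 × ZMod 2 × ZMod 2) => a ^ 2) (by simp)]
    decide +kernel
  obtain ⟨ψ, hs, hψ⟩ := io_surj (Cfsg.Agent.S2091.result hE) s₁ (ξ₂ := χ)
    ⟨h3, h4.le, hq'.1.commutator_eq_top.ge.trans' le_top⟩ fun f₁ f₂ hf₂ => by
      rw [Schur.ker_eq_pow_range 2 f₂ hf₂ (fun b => Subtype.ext (Subtype.ext (by
        rcases (mem b).1 b.2 with k | k | k | k <;> simp [pow_two, k, (sq h''.tail).1, (sq h'.tail).1,
          (sq h.tail).1]))) (by rw [hr, c4]; simp)]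
      rintro _ ⟨a, rfl⟩
      have := pow_card_eq_one' (x := f₁ a)
      rwa [(congrArg (fun K : Subgroup L => Nat.card K) k₁).trans h2, ← map_pow] at this
  have cz : ∀ y, ψ y ∈ center L ↔ χ y = 1 := fun y => by rw [← k₁, MonoidHom.mem_ker, hψ]
  obtain ⟨z, z1, hz⟩ := (Nat.card_eq_two_iff' (1 : center L)).1 h2
  have z2 : z.1 * z.1 = 1 := by
    have := pow_card_eq_one' (x := z)
    rw [h2, pow_two] at this
    exact congrArg Subtype.val this
  have two : ∀ y, χ y = 1 → ψ y = 1 ∨ ψ y = z := fun y hy => or_iff_not_imp_left.2 fun k =>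
    congrArg Subtype.val (hz ⟨_, (cz y).2 hy⟩ fun k' => k (congrArg Subtype.val k'))
  have ker : ∀ y, ψ y = 1 → χ y = 1 := fun y hy => (cz y).1 (hy ▸ one_mem _)
  have mc : e * f ∈ Cl [d, e, f] := ab ▸ mul_mem ma mb
  have pc : ψ ⟨_, mc⟩ = ψ ⟨_, ma⟩ * ψ ⟨_, mb⟩ := by rw [← map_mul]; exact congrArg ψ (Subtype.ext ab.symm)
  have z1' : z.1 ≠ 1 := fun k => z1 (Subtype.ext k)
  have fin : ∀ {n}, (∀ y : Cl [d, e, f], y.1 = n → ψ y = 1) → (∀ y : Cl [d, e, f],
      y.1 = d * e ∨ y.1 = d * f ∨ y.1 = e * f → y.1 = n ∨ ψ y = z) → ∀ y, ψ y = 1 ↔ y.1 = 1 ∨ y.1 = n :=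
    fun k1 k2 y => ⟨fun k => ((mem y).1 (ker y k)).imp_right fun k3 => (k2 y k3).resolve_right
      fun k4 => z1' (k4.symm.trans k), fun k => k.elim (fun k => by rw [show y = 1 from Subtype.ext k, map_one]) (k1 y)⟩
  have ev : ∀ {n} (m : n ∈ Cl [d, e, f]) {w}, ψ ⟨n, m⟩ = w → ∀ y : Cl [d, e, f], y.1 = n → ψ y = w :=
    fun m _ k y hy => (congrArg ψ (Subtype.ext hy)).trans k
  rcases two ⟨_, ma⟩ ((mem _).2 (by simp)) with a | a <;> rcases two ⟨_, mb⟩ ((mem _).2 (by simp)) with b | b <;>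
    rw [a, b] at pc
  · obtain ⟨y, hy⟩ := hs z
    refine absurd (hy.symm.trans ?_) z1'
    rcases (mem y).1 ((cz y).1 (hy ▸ z.2)) with k | k | k | k
    exacts [by rw [show y = 1 from Subtype.ext k, map_one], ev ma a y k, ev mb b y k, ev mc (pc.trans (one_mul 1)) y k]
  · exact io_fin M h'' (F22S.Cl_congr (by simp; tauto)) ψ hs (fin (ev ma a) fun y k =>
      k.imp_right fun k => k.elim (ev mb b y) (ev mc (pc.trans (one_mul _)) y))
  · exact io_fin M h' (F22S.Cl_congr (by simp; tauto)) ψ hs (fin (ev mb b) fun y k =>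
      k.elim (fun k => .inr (ev ma a y k)) (Or.imp_right (ev mc (pc.trans (mul_one _)) y)))
  · exact io_fin M h rfl ψ hs (fin (ev mc (pc.trans z2)) fun y k =>
      k.elim (fun k => .inr (ev ma a y k)) fun k => k.symm.imp_right (ev mb b y))

/-- PROOF (cf. `F22S.exists_iota'`, `Schur.nonempty_equiv_of_ker_unique`).  Transport E to a field in `Type` if needed.
K = Cl [d,e,f] (d e f = dd pt24 0,1,2; `cl_dd m24_fi`), `core_four`: χ : K ↠ PSU 6 E 2 stem with kernel {1, de, df, ef} of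
order 4.  Γ the universal cover (S2091: multiplier A = 3 x 2 x 2), η₁ : Γ ↠ L, η₂ : Γ ↠ K
(`exists_lift_of_perfect_cover`, `surjective_of_lift`, `exists_ker_data`); ker f₂ = squares of A (`ker_eq_pow_range 2`)
≤ ker f₁, so η₁ factors through a surjection ψ : K ↠ L whose kernel lies in ker χ and has order 2: {1, de}, {1, df} or
{1, ef}.  Rename (`Cl_congr`, `CL.perm`) so that it is {1, e f}; `md` has the same kernel; ι = the induced map. -/
theorem exists_iota {L : Type*} [Group L] [Finite L] (hq : IsQuasisimple L) (h2 : Nat.card (center L) = 2)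
    {E : Type*} [Field E] [Fintype E] (hE : Fintype.card E = 4) (e : L ⧸ center L ≃* PSU 6 E 2) :
    ∃ ι : L →* Fi22, Function.Injective ι ∧ ι.range = centralizer {z22} :=
  io_main m24_fi (F22S.cl_dd m24_fi (l := [0, 1, 2]) (by decide)) hq h2 hE e

end CfsgLib.F22W
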