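import Cfsg.Agent.Lib.F22W.UDefs
import Cfsg.Agent.Lib.F22S.End

/-! The centraliser of a transposition of `Fi₂₂` as a quotient of `2².U₆(2)`; double covers of `U₆(2)`. -/

set_option autoImplicit false
set_option maxRecDepth 100000

namespace CfsgLib.F22W

open Cfsg Cfsg.Spor CfsgLib.Comput CfsgLib.ThreeTrans CfsgLib.Fischer CfsgLib.FiTool CfsgLib.M22T Subgroup
open CfsgLib.F22S (Inn Cl Ce)

variable {F : Type*} [Group F] {D : Set F} {g pt : ℕ → F}

/-- PROOF.  `F22S.exists_chi` for `CL D [e, f]`: χ : Cl [e,f] ↠ Fi22, kernel {1, e f}; χ (e d) ∈ D22, so after composing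
with an inner automorphism of Fi22 χ (e d) = z22.  π = χ restricted to Cl [d,e,f] ≤ Cl [e,f] (`Cl_mono`).  If χ x commutes
with z22 then x (e d) x⁻¹ ∈ {e d, e d e f}, so x d x⁻¹ = d or e (x d x⁻¹) = f d.., i.e. a product of four (or fewer)
commuting transpositions is trivial (`CL.prod_ne_one`, `commute_of_commute_mul`; or: x d x⁻¹ = d e f is not in D). -/
theorem md (M : M24 D g pt) {d e f : F} (h : CL D [d, e, f]) : ∃ π : Cl [d, e, f] →* Fi22,
    π.range = centralizer {z22} ∧ (∀ y, π y = 1 ↔ y.1 = 1 ∨ y.1 = e * f) ∧ (∀ y, y.1 = e * d → π y = z22) ∧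
      ∀ y, π y ∈ D22 ↔ ∃ x, CL D [e, f, x] ∧ (y.1 = e * x ∨ y.1 = f * x) := by
  obtain ⟨-, χ, h1, h2, h3⟩ := F22S.exists_chi M h.tail
  have h' : CL D [e, f, d] := (h.perm (List.perm_append_comm (l₁ := [d]))).1
  have m : e * d ∈ Cl [e, f] := F22S.mul_mem_Cl' M h (by simp) (by simp) (by simp)
  obtain ⟨c, hc⟩ := isConj_iff.1 (IsConj.trans (IsConj.symm ((h3 ⟨_, m⟩).2 ⟨d, h', .inl rfl⟩))
    (m22_fi.bm.mem 0 (by norm_num)))
  change _ = z22 at hc
  have le : Cl [d, e, f] ≤ Cl [e, f] := F22S.Cl_mono (by simp)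
  refine ⟨(MulAut.conj c).toMonoidHom.comp (χ.comp (inclusion le)), le_antisymm ?_ fun w hw => ?_,
    fun y => (map_eq_one_iff _ (MulAut.conj c).injective).trans (h2 _), fun y hy => ?_,
    fun y => Iff.trans ⟨fun k => k.trans (isConj_iff.2 ⟨c⁻¹, by simp [mul_assoc]⟩),
      fun k => k.trans (isConj_iff.2 ⟨c, rfl⟩)⟩ (h3 (inclusion le y))⟩
  · rintro _ ⟨y, rfl⟩
    have k := (F22S.mem_Cl.1 y.2).2
    have : Commute (inclusion le y) ⟨_, m⟩ := Subtype.ext ((k e (by simp)).mul_right (k d (by simp)))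
    exact mem_centralizer_singleton_iff.2 (hc ▸ (this.map χ).map (MulAut.conj c))
  · obtain ⟨x, hx⟩ := h1 (c⁻¹ * w * c)
    have k := (F22S.mem_Cl.1 x.2).2
    have k1 : χ (x * ⟨_, m⟩ * x⁻¹ * (⟨_, m⟩ : Cl [e, f])⁻¹) = 1 := by
      rw [map_mul, map_mul, map_mul, map_inv, map_inv, hx]
      calc _ = c⁻¹ * (w * (c * χ ⟨_, m⟩ * c⁻¹) * w⁻¹ * (c * χ ⟨_, m⟩ * c⁻¹)⁻¹) * c := by group
        _ = 1 := by rw [hc, mem_centralizer_singleton_iff.1 hw]; group
    have k2 : Commute x.1 d := by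
      rcases (h2 _).1 k1 with k2 | k2
      · exact (Fi24T.commute_mul_iff (k e (by simp))).1 (mul_inv_eq_iff_eq_mul.1 (mul_inv_eq_one.1 k2))
      · replace k2 : x.1 * (e * d) * x.1⁻¹ = e * f * (e * d) := mul_inv_eq_iff_eq_mul.1 k2
        rw [← conj_mul, (k e (by simp)).eq, mul_inv_cancel_right, mul_assoc e f, mul_right_inj] at k2
        exact absurd (M.length_eq (by norm_num) (by norm_num)
          (isCP_one.2 (M.grp.2.1 x d (h.2.1 d (by simp))))
          (isCP_iff.2 ⟨[f, e, d], (h'.perm (List.Perm.swap _ _ _)).1, rfl, by simp [k2]⟩)) (by norm_num)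
    refine ⟨⟨x, F22S.mem_Cl_cons.2 ⟨x.2, k2⟩⟩, ?_⟩
    show c * χ x * c⁻¹ = w
    rw [hx]; group
  · rw [← hc]
    exact congrArg (fun a => c * χ a * c⁻¹) (Subtype.ext hy)

end CfsgLib.F22W
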