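import Cfsg.Agent.Lib.S86.Witt
import Cfsg.Agent.Lib.S86.Iso

/-! The 2-rank of `Sp₆(2)`. -/

set_option autoImplicit false
set_option maxRecDepth 100000

namespace CfsgLib.F22W

open Cfsg Subgroup CfsgLib.S86

/-- PROOF.  The 2-group U fixes one of the 63 vectors, w.l.o.g. e3 (`witt1`).  Stab(e3) = Q κ(S6): for g fixing e3 pick q in
Q = {1, tv e3} {gu e3 u} (order 32, regular on the vectors v with bf e3 v) with q g fixing f3, `fix_e3f3`.  The action on
e3^⊥/e3 is a homomorphism U → PG 6 (or: count with the map g ↦ p) with kernel U ⊓ Q; an elementary abelian subgroup of S6 has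
order ≤ 8 (order 16 would be a Sylow subgroup of 720 = 16 * 45, and S6 has an element of order 4); so |U| ≥ 256 forces Q ≤ U,
but an element commuting with Q lies in Q (it fixes tv e3 .. : g (gu e3 u) g⁻¹ = gu e3 (g u)), so U = Q.  Any other proof is fine. -/
theorem sp_rank (U : Subgroup SM) (h : ∀ x ∈ U, x * x = 1) : Nat.card U < 2 ^ 8 := by
  have := Fact.mk Nat.prime_two
  have : Finite SM := Nat.finite_of_card_ne_zero (by rw [card_SM]; norm_num)
  by_contra! h8
  obtain ⟨g, g8, g4⟩ : ∃ g : SM, g ^ 2 ^ 3 = 1 ∧ g * g * (g * g) ≠ 1 :=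
    ⟨tv (W2.TG.o 6) * tv (W2.TG.o 24) * tv (W2.TG.o 61) * tv (W2.TG.o 57) * tv (W2.TG.o 46), by decide +kernel⟩
  obtain ⟨P, hP⟩ := IsPGroup.exists_le_sylow (p := 2) (P := U)
    fun x => ⟨1, Subtype.ext (by rw [pow_one, sq]; exact h x x.2)⟩
  obtain ⟨c, -, hc⟩ := (Tech.IsSylowIn.of_sylow_top P).exists_cj_le
    (Tech.isPGroup_zpowers_of_pow g8) le_top
  have h1 : c * g * c⁻¹ ∈ (P : Subgroup SM) := hc (Tech.conj_mem_cj.2 (mem_zpowers g))
  have h2 : Nat.card (P : Subgroup SM) ∣ 2 ^ 9 := by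
    obtain ⟨k, hk⟩ := IsPGroup.iff_card.1 P.isPGroup'
    have := card_subgroup_dvd_card (P : Subgroup SM)
    rw [hk, card_SM] at this
    rw [hk]
    exact Nat.Coprime.dvd_of_dvd_mul_right (n := 2835) (Nat.Coprime.pow_left k (by norm_num)) this
  have h3 := (U.subgroupOf P).card_mul_index
  rw [Nat.card_congr (subgroupOfEquivOfLe hP).toEquiv] at h3
  have h4 : (U.subgroupOf P).index ≤ 2 := by
    have := Nat.le_of_dvd (by norm_num) h2
    by_contra h5
    nlinarith
  have h5 : c * g * c⁻¹ * (c * g * c⁻¹) ∈ U := by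
    have h6 := (U.subgroupOf (P : Subgroup SM)).index_ne_zero_of_finite
    obtain h7 | h7 : (U.subgroupOf P).index = 1 ∨ (U.subgroupOf P).index = 2 := by omega
    · exact (index_eq_one.1 h7).ge (mem_top (⟨_, mul_mem h1 h1⟩ : (P : Subgroup SM)))
    · exact mul_self_mem_of_index_two h7 ⟨_, h1⟩
  have := h _ h5
  rw [conj_mul, conj_mul] at this
  exact g4 (by simpa using this)

end CfsgLib.F22W
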