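import Cfsg.Agent.Lib.F22S.Good
import Cfsg.Agent.Lib.M22T.I22

/-! The elementary abelian group of order `2¹⁰` in `2.U₆(2)` (project F22W). -/

set_option autoImplicit false
set_option maxRecDepth 100000
set_option Elab.async false

namespace CfsgLib.F22W

open Cfsg Cfsg.Spor CfsgLib.Comput CfsgLib.ThreeTrans CfsgLib.Fischer CfsgLib.FiTool
  CfsgLib.M22T Subgroup
open CfsgLib.F22S (Inn)

variable {L G : Type*} [Group L] [Group G]

/-- the transpositions of `Fi₂₂` -/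
abbrev D22 : Set Fi22 := conjugatesOf (g22 0)

/-- the first point of the base -/
noncomputable abbrev z22 : Fi22 := b22 pt22 0

/-- the coordinates of the 22 vectors -/
noncomputable abbrev co : ℕ → ℕ := nth 0 cs22

/-- generators of the stabiliser of the first vector -/
noncomputable abbrev ps : ℕ → ℕ → ℕ := tabP ft22a

/-- the group generated by the vectors -/
abbrev AA (B : ℕ → L) : Subgroup L := closure (bset B 22)

/-- the facts about a frame -/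
structure Um0 (B : ℕ → L) : Prop where
  lin : Lin 22 10 B co
  cen0 : ∀ z, z ∈ center L ↔ z = 1 ∨ z = B 0
  act : Act ⊤ 22 B ps
  cen : ∀ x, (∀ i < 22, Commute x (B i)) → x ∈ AA B
  cls : ∀ i < 22, i ≠ 0 → IsConj (B 1) (B i)
  emax : ∀ x ∈ AA B, IsConj (B 1) x → ∃ j < 22, j ≠ 0 ∧ B j = x
  iv : ∀ s, s * s = 1 ∨ s * s = B 0 → ∃ c, c * s * c⁻¹ ∈ AA B
  jf : ∀ P : Subgroup L, IsPGroup 2 P → B 0 ∈ P → ∃ c, ∀ U ≤ P, (∀ y ∈ U, y * y = 1) → B 0 ∈ U → 2 ^ 10 ≤ Nat.card U →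
    ∀ y ∈ U, c * y * c⁻¹ ∈ AA B
  idx : ∀ φ ψ : MulAut L, ¬Inn φ → ¬Inn ψ → Inn (φ * ψ)
  aut1 : ∀ φ : MulAut L, IsConj (B 1) (φ (B 1))
  fx : ∀ φ : MulAut L, (∀ i < 22, φ (B i) = B i) → Inn φ
  tri : ∀ φ : MulAut L, ∀ i < 22, ∀ j < 22, ∀ k < 22, i ≠ 0 → j ≠ 0 → k ≠ 0 → i ≠ j → i ≠ k → j ≠ k →
    φ (B i * B j) = B i * B j → φ (B i * B k) = B i * B k → φ (B i) = B i
  rk : ∀ φ : MulAut L, φ * φ = 1 → ¬Inn φ → ∀ U : Subgroup L, (∀ x ∈ U, x * x = 1 ∧ φ x = x) → B 0 ∈ U →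
    Nat.card U < 2 ^ 9
  q8 : ∃ i j, i * i = B 0 * B 1 ∧ j * j = B 0 * B 1 ∧ i * j * (i * j) = B 0 * B 1
  four : ∀ l : List L, CL (insert (B 0) (conjugatesOf (B 1))) l → l.length = 4 → l.prod ≠ 1
  gen : closure (conjugatesOf (B 1)) = ⊤
  tt : IsThreeTranspositionSet (conjugatesOf (B 1))
  iso : ∃ β : Fi22 → L, KIso (perp D22 z22) (conjugatesOf (B 1)) β

/-- all conjugates are frames -/
def Um (B : ℕ → L) : Prop := ∀ c, Um0 fun i => c * B i * c⁻¹

theorem Um.f {B : ℕ → L} (h : Um B) : Um0 B := by simpa using h 1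

theorem Um.conj {B : ℕ → L} (h : Um B) (c : L) : Um fun i => c * B i * c⁻¹ := fun c' => by
  convert h (c' * c) using 2; group

theorem Um0.aut_t {B : ℕ → L} (h : Um0 B) (φ : MulAut L) : φ (B 0) = B 0 := by
  have t1 : B 0 ≠ 1 := fun e => absurd (h.lin.inj 1 (by norm_num)
    ((bprod_two_pow (j := 0) (by norm_num)).trans e)) (by norm_num)
  refine ((h.cen0 _).1 (mem_center_iff.2 fun x => ?_)).resolve_left (φ.map_ne_one_iff.2 t1)
  obtain ⟨x, rfl⟩ := φ.surjective x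
  rw [← map_mul, ← map_mul, mem_center_iff.1 ((h.cen0 _).2 (Or.inr rfl)) x]

theorem Um0.autE {B : ℕ → L} (h : Um0 B) (φ : MulAut L) {x : L} (hx : IsConj (B 1) x) : IsConj (B 1) (φ x) :=
  (h.aut1 φ).trans (φ.toMonoidHom.map_isConj hx)

theorem Um0.amax {B : ℕ → L} (h : Um0 B) (φ : MulAut L) {i : ℕ} (hi : i < 22) (hx : φ (B i) ∈ AA B) :
    ∃ j < 22, B j = φ (B i) := by
  by_cases h0 : i = 0
  · exact ⟨0, by norm_num, by rw [h0, h.aut_t]⟩
  · obtain ⟨j, hj, -, e⟩ := h.emax _ hx (h.autE φ (h.cls i hi h0))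
    exact ⟨j, hj, e⟩

theorem Um0.max {B : ℕ → L} (h : Um0 B) (x : L) (i : ℕ) (hi : i < 22) (hx : x * B i * x⁻¹ ∈ AA B) :
    ∃ j < 22, B j = x * B i * x⁻¹ := h.amax (MulAut.conj x) hi hx

/-- the facts in the ambient group at the end of the fusion argument -/
structure Hd (L : Subgroup G) (t : G) (E : Set G) : Prop where
  t2 : t * t = 1
  t1 : t ≠ 1
  tL : t ∈ L
  cL : ∀ l ∈ L, Commute l t
  good : M22T.Good t E
  tE : t ∉ E
  gen : closure E = L
  tt : IsThreeTranspositionSet E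
  iso : ∃ β : Fi22 → G, KIso (perp D22 z22) E β
  cK : ∀ x, (∀ l ∈ L, Commute x l) → x = 1 ∨ x = t
  idx : ∀ h k, Commute h t → Commute k t → h ∉ L → k ∉ L → h * k ∈ L

/-- the action of a word on a vector -/
noncomputable def av (w v : ℕ) : ℕ := synM (fun j => co (act ps w j)) 10 v

/-- the commutators of the words with the vectors -/
noncomputable def dW (ws : List ℕ) (j : ℕ) : ℕ := co (j % 22) ^^^ co (act ps (nth 0 ws (j / 22)) (j % 22))

/-- nine independent vectors -/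
noncomputable def vW (r : ℕ) (ws ms : List ℕ) (j : ℕ) : ℕ := if j = 8 then r else synM (dW ws) 44 (nth 0 ms j)

/-- the facts about a representative -/
def Rep (r : ℕ) (ws us ms : List ℕ) (a m : ℕ) : Prop :=
  r < 2 ^ 10 ∧ (∀ j < 2, av (nth 0 ws j) r = r ∧ av (nth 0 us j) r = r ∧
    ∀ i < 22, act ps (nth 0 ws j) (act ps (nth 0 ws j) (act ps (nth 0 ws j) i)) = i) ∧
  (synM (dW ws) 44 m = av a r ^^^ r ∧ av a r ≠ r) ∧
  (∀ i < 22, 3 ≤ i → (∃ j < 2, act ps (nth 0 ws j) i ≠ 0 ∧ act ps (nth 0 ws j) (act ps (nth 0 ws j) i) ≠ 0 ∧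
    i ≠ act ps (nth 0 ws j) i ∧ i ≠ act ps (nth 0 ws j) (act ps (nth 0 ws j) i) ∧
      act ps (nth 0 ws j) i ≠ act ps (nth 0 ws j) (act ps (nth 0 ws j) i)) ∧ ∀ j < 22, co j ≠ co i ^^^ r) ∧
  allI (fun v => bor (memL [0, 1, r, r ^^^ 1] v) (anyI (fun j => bnot (Nat.beq (av (nth 0 us j) v) v)) 2)) 0 (2 ^ 10) = true ∧
  allI (fun c => bor (Nat.beq c 0) (bnot (Nat.beq (synM (vW r ws ms) 9 c) 0))) 0 (2 ^ 9) = true

noncomputable instance (r : ℕ) (ws us ms : List ℕ) (a m : ℕ) : Decidable (Rep r ws us ms a m) := by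
  unfold Rep; infer_instance

theorem rep2 : Rep 2 [0x2040302, 0x50204030205] [0x5020302] [0x4, 0x8, 0x10, 0x40, 0x80, 0x100, 0x1000000, 0x4000000]
    1 0x150001c4 := by decide +kernel

theorem rep3 : Rep 3 [0x2040302, 0x50204030205] [0x5020302] [0x4, 0x8, 0x10, 0x40, 0x80, 0x100, 0x1000000, 0x2000000]
    1 0x150001c4 := by decide +kernel

theorem rep6 : Rep 6 [0x205030203050201, 0x402050302030502] [1, 0x205030203050402]
    [0x8, 0x10, 0x20, 0x80, 0x100, 0x200, 0x2000000, 0x20000000] 2 0x42000308 := by decide +kernel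

theorem rep7 : Rep 7 [0x205030203050201, 0x402050302030502] [1, 0x205030203050402]
    [0x8, 0x10, 0x20, 0x80, 0x100, 0x200, 0x20000000, 0x40000000] 2 0x42000308 := by decide +kernel

theorem rep14 : Rep 14 [0x4030203, 0x20501030203050201] [4, 0x50203020503020503]
    [0x2, 0x4, 0x10, 0x80, 0x100, 0x200, 0x4000000, 0x10000000] 0x301 0x86 := by decide +kernel

theorem co_facts : (∀ i < 22, ∀ j < 22, co i = co j → i = j) ∧ (∀ i < 22, 3 ≤ i → ∀ j < 22, co j ≠ 1 ^^^ co i) ∧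
    ∀ i < 3, co i = synM co 22 (nth 0 [3280, 11592, 9712] i) ∧ ∀ j < 3, (nth 0 [3280, 11592, 9712] i).testBit j = false := by
  decide +kernel

theorem orb1 : M22T.orbOK (stV co ps 10) (2 ^ 10) o0a (fun _ => true)
    (fun M => bor (Nat.beq M 0) (FiTool.anyL (tb M) [0, 1, 2, 3, 6, 7, 14])) = true := by decide +kernel

theorem tau0' : M22T.orbOK (stV co ps 10) (2 ^ 10) o0a (fun S => bnot (tb S 0)) (pTau co 22 10 [2, 3, 6, 7, 14]) = true := by
  have e : coE (nth 0 cs22) (0 <<< 10) = co := funext fun i => by rw [coE_eq]; simp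
  exact e ▸ tau0

end CfsgLib.F22W
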