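import Cfsg.Agent.Lib.F22W.Io
import Cfsg.Agent.Lib.F22W.Fr
import Cfsg.Agent.Lib.F22W.Amb
import Cfsg.Agent.Lib.F22W.H1
import Cfsg.Agent.Lib.F22W.H2

/-! A standard subgroup `2.U₆(2)` of a locally balanced simple group. -/

set_option autoImplicit false
set_option maxRecDepth 100000

namespace CfsgLib.F22W

open Cfsg Cfsg.Spor CfsgLib.Comput CfsgLib.ThreeTrans CfsgLib.Fischer CfsgLib.FiTool CfsgLib.M22T Subgroup

variable {G : Type*} [Group G] [Finite G]

theorem umain [IsSimpleGroup G] (hG : ¬IsMulCommutative G)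
    (hbal : ∀ t : G, orderOf t = 2 → centralizerPPrimeCore 2 t = ⊥) {L : Subgroup G} (hL : IsStandardSubgroup L)
    (hZ : Nat.card (center L) = 2) {E : Type*} [Field E] [Fintype E] (hE : Fintype.card E = 4)
    (f : L ⧸ center L ≃* PSU 6 E 2) : IsoFi22 G := by
  obtain ⟨ι, hi, hr⟩ := exists_iota hL.1 hZ hE f
  obtain ⟨B, h⟩ := exists_um ι hi hr
  obtain ⟨hK, g, g1, g2⟩ := amb hG hbal hL h
  have a := hd_of hL h hK ⟨g, g1, g2⟩
  have e : L = centralizer {(B 0 : G)} :=
    le_antisymm (fun l hl => mem_centralizer_singleton_iff.2 (a.cL l hl)) (a.le hG)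
  have e2 : center L = (zpowers (B 0 : G)).subgroupOf L := by
    ext z
    rw [h.f.cen0, mem_subgroupOf, ExtraTwo.mem_zpowers_iff_of_mul_self a.t2, Subtype.ext_iff, Subtype.ext_iff]
    rfl
  have ho : orderOf (B 0 : G) = 2 := orderOf_eq_prime (by rw [pow_two, a.t2]) a.t1
  have hq := hL.1
  clear a hK hr hi h
  generalize (B 0 : G) = t at *
  subst e
  have : ((zpowers t).subgroupOf (centralizer {t})).Normal := e2 ▸ inferInstance
  obtain ⟨M, R⟩ := cor22 hE ho ((QuotientGroup.quotientMulEquivOfEq e2).symm.trans f)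
  obtain ⟨j, -⟩ := main22 R hq.1 ⟨g, g1, g2⟩
  exact ⟨j⟩

end CfsgLib.F22W
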